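import Cfsg.Agent.Lib.CentreIndexSq.Frame

/-!
The automorphisms of an essential subgroup with a frame.
-/

set_option autoImplicit false
set_option linter.unusedSectionVars false

namespace Cfsg.Agent.Lib.CentreIndexSq

open Subgroup Cfsg
open Cfsg.FusionSystem hiding inv_mem conj_mem
open Cfsg.Agent.Lib Cfsg.Agent.Lib.Fusion
open Cfsg.Agent.Lib.AbelianMaximal (zS dz mem_zS_map_aut aut_mem_dz)

variable {Ω : Type*} [Group Ω] {S : Subgroup Ω} {p : ℕ} [hp : Fact p.Prime] {F : FusionSystem S}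
  [Finite S]

variable (h : SmallQuot p S) (hF : F.IsSaturated p) {E C : Subgroup Ω} (hE : F.IsEssential p E)
  {e f : E} {a w : MulAut E} (hfr : Frame F p E C e f a w)

namespace Frame

include hfr

theorem e_zS : (e : Ω) ∈ zS S := dz_le_zS hfr.e_mem

theorem f_ne : f ≠ 1 := fun e' => hfr.f_not_mem (by rw [e']; exact one_mem _)

include h in
theorem e_pow : e ^ p = 1 :=
  Subtype.ext (by simpa using CentralCommutator.pow_eq_one (card_dz h) hfr.e_mem)

/-- Powers of `f` in the centre are trivial. -/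
theorem f_zpow {j : ℤ} (hj : ((f ^ j : E) : Ω) ∈ zS S) : f ^ j = 1 := by
  by_contra hne
  have hd : ¬ (p : ℤ) ∣ j := fun ⟨q, hq⟩ => hne (by
    rw [hq, zpow_mul, zpow_natCast, hfr.f_pow, one_zpow])
  obtain ⟨u, v, huv⟩ := ((Nat.prime_iff_prime_int.1 hp.out).coprime_iff_not_dvd).2 hd
  refine hfr.f_not_mem ?_
  have e1 : f = (f ^ j) ^ v := by
    rw [← zpow_mul]
    conv_lhs => rw [← zpow_one f, ← huv, zpow_add, mul_comm u, zpow_mul, zpow_natCast, hfr.f_pow,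
      one_zpow, one_mul, mul_comm]
  rw [e1, Subgroup.coe_zpow]
  exact zpow_mem hj v

/-- The decomposition of central elements. -/
theorem z_decomp {z : E} (hz : (z : Ω) ∈ zS S) :
    ∃ (i : ℤ) (c : E), (c : Ω) ∈ C ∧ z = e ^ i * c := by
  obtain ⟨i, j, c, hc, rfl⟩ := hfr.decomp z
  refine ⟨i, c, hc, ?_⟩
  rw [hfr.f_zpow (j := j) ?_, mul_one]
  have h1 := mul_mem (mul_mem (inv_mem (zpow_mem hfr.e_zS i)) hz) (inv_mem (hfr.C_le hc))
  simpa [mul_assoc] using h1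

include h in
theorem mem_C_of {z : E} {i : ℤ} {c : E} (hc : (c : Ω) ∈ C) (hz : z = e ^ i * c)
    (hw : (w z : Ω) ∈ zS S) : (z : Ω) ∈ C := by
  subst hz
  rw [map_mul, map_zpow, hfr.w_e, hfr.w_C c hc, inv_zpow, Subgroup.coe_mul, Subgroup.coe_inv] at hw
  have h1 : ((f ^ i : E) : Ω) ∈ zS S := by
    have := inv_mem (mul_mem hw (inv_mem (hfr.C_le hc)))
    rwa [mul_inv_cancel_right, inv_inv] at this
  have hfi := hfr.f_zpow h1
  have hford : orderOf f = p := orderOf_eq_prime hfr.f_pow hfr.f_ne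
  have hd : (p : ℤ) ∣ i := hford ▸ orderOf_dvd_iff_zpow_eq_one.2 hfi
  obtain ⟨q, rfl⟩ := hd
  rw [zpow_mul, zpow_natCast, hfr.e_pow h, one_zpow, one_mul]
  exact hc

theorem a_pow_C (k : ℕ) {c : E} (hc : (c : Ω) ∈ C) : (a ^ k) c = c :=
  pow_mem (show a ∈ MulAction.stabilizer (MulAut E) c from hfr.a_C c hc) k

theorem a_pow_e (k : ℕ) : (a ^ k) e = e :=
  pow_mem (show a ∈ MulAction.stabilizer (MulAut E) e from hfr.a_e) k

theorem a_pow_f (k : ℕ) : (a ^ k) f = f * e ^ k := by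
  induction k with
  | zero => simp
  | succ k ih =>
    rw [pow_succ', MulAut.mul_apply, ih, map_mul, map_pow, hfr.a_e, hfr.a_f, mul_assoc, ← pow_succ']

theorem aw_C (k : ℕ) {c : E} (hc : (c : Ω) ∈ C) : (a ^ k * w) c = c := by
  rw [MulAut.mul_apply, hfr.w_C c hc, hfr.a_pow_C k hc]

include h hF hE in
/-- Every automorphism is a product of some `aᵏ w` or the identity with one extending to `S`. -/
theorem factor {β : MulAut E} (hβ : β ∈ F.autGroup E) :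
    ∃ g ∈ F.autGroup E, (∀ c : E, (c : Ω) ∈ C → g c = c) ∧
      (∀ u : E, u ∈ closure ({e, f} : Set E) → g u ∈ closure ({e, f} : Set E)) ∧
      ∃ γ ∈ F.autGroup S, ∀ x : E, (γ ⟨x, hE.1.1 x.2⟩ : Ω) = (g⁻¹ * β) x := by
  have hES := hE.1.1
  by_cases hm : ∀ d : E, (d : Ω) ∈ dz S → (β d : Ω) ∈ zS S
  · refine ⟨1, one_mem _, fun c _ => rfl, fun u hu => hu, ?_⟩
    rw [inv_one, one_mul]
    exact exists_ext h hF hE hβ hm
  push Not at hm
  obtain ⟨d, hd, hdβ⟩ := hm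
  have hgen : ∀ d : E, (d : Ω) ∈ dz S → ∃ n : ℕ, e ^ n = d := fun d hd => by
    obtain ⟨n, hn⟩ := CentralCommutator.exists_pow_eq (card_dz h) hfr.e_mem
      (fun e' => hfr.e_ne (Subtype.ext e')) hd
    exact ⟨n, Subtype.ext (by simpa using hn)⟩
  obtain ⟨i, j, c, hc, hβe⟩ := hfr.decomp (β e)
  have hfj : f ^ j ≠ 1 := fun e' => hdβ (by
    obtain ⟨n, rfl⟩ := hgen d hd
    rw [map_pow, hβe, e', mul_one, Subgroup.coe_pow, Subgroup.coe_mul, Subgroup.coe_zpow]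
    exact pow_mem (mul_mem (zpow_mem hfr.e_zS i) (hfr.C_le hc)) n)
  have hej : e ^ j ≠ 1 := fun e' => hfj (by
    obtain ⟨q, rfl⟩ : (p : ℤ) ∣ j :=
      orderOf_eq_prime (hfr.e_pow h) hfr.e_ne ▸ orderOf_dvd_iff_zpow_eq_one.2 e'
    rw [zpow_mul, zpow_natCast, hfr.f_pow, one_zpow])
  obtain ⟨k, hk⟩ : ∃ k : ℕ, (e ^ j) ^ k = e ^ i := by
    obtain ⟨k, hk⟩ := CentralCommutator.exists_pow_eq (card_dz h)
      (show ((e ^ j : E) : Ω) ∈ dz S by rw [Subgroup.coe_zpow]; exact zpow_mem hfr.e_mem j)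
      (fun e' => hej (Subtype.ext e'))
      (show ((e ^ i : E) : Ω) ∈ dz S by rw [Subgroup.coe_zpow]; exact zpow_mem hfr.e_mem i)
    exact ⟨k, Subtype.ext (by simpa using hk)⟩
  have haw : a ^ k * w ∈ F.autGroup E :=
    mul_mem (pow_mem (autInducedBy_le_autGroup hES hfr.a_mem) k) hfr.w_mem
  refine ⟨a ^ k * w, haw, fun c hc => hfr.aw_C k hc, fun u hu => ?_, ?_⟩
  · refine (closure_le ((closure ({e, f} : Set E)).comap (a ^ k * w).toMonoidHom)).2 ?_ hu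
    have he' : e ∈ closure ({e, f} : Set E) := subset_closure (Set.mem_insert e _)
    have hf' : f ∈ closure ({e, f} : Set E) := subset_closure (Set.mem_insert_of_mem e rfl)
    rintro v hv
    show (a ^ k) (w v) ∈ closure ({e, f} : Set E)
    rcases hv with hv | hv <;> rw [show v = _ from hv]
    ·
      rw [hfr.w_e, map_inv, hfr.a_pow_f]
      exact inv_mem (mul_mem hf' (pow_mem he' k))
    · rw [hfr.w_f, hfr.a_pow_e]
      exact he'
  refine exists_ext h hF hE (mul_mem (inv_mem haw) hβ) fun d hd => ?_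
  obtain ⟨n, rfl⟩ := hgen d hd
  have hwi : w⁻¹ f = e⁻¹ := w.injective (by rw [MulAut.apply_inv_self, map_inv, hfr.w_e, inv_inv])
  have hkey : (a ^ k * w) ((e⁻¹) ^ j * c) = β e := by
    rw [map_mul, map_zpow, hfr.aw_C k hc, MulAut.mul_apply, map_inv w, hfr.w_e, inv_inv,
      hfr.a_pow_f, hβe]
    have hcomm : Commute f (e ^ k) := Subtype.ext (ess_comm h hF hE f.2 (e ^ k).2)
    rw [hcomm.mul_zpow, ← zpow_natCast e k, ← zpow_mul, mul_comm (k : ℤ), zpow_mul, zpow_natCast, hk,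
      show f ^ j * e ^ i = e ^ i * f ^ j from Subtype.ext (ess_comm h hF hE (f ^ j).2 (e ^ i).2)]
  rw [map_pow, MulAut.mul_apply, ← hkey, MulAut.inv_apply_self, Subgroup.coe_pow, Subgroup.coe_mul,
    Subgroup.coe_zpow, Subgroup.coe_inv]
  exact pow_mem (mul_mem (zpow_mem (inv_mem hfr.e_zS) j) (hfr.C_le hc)) n

include h hF hE in
theorem inv_mem_zS {β : MulAut E} (hβ : β ∈ F.autGroup E) {c : E} (hc : (c : Ω) ∈ C) :
    (β⁻¹ c : Ω) ∈ zS S := by
  obtain ⟨g, -, hgC, -, γ, -, hγ⟩ := hfr.factor h hF hE hβ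
  have e1 : (g⁻¹ * β) (β⁻¹ c) = c := by
    rw [MulAut.mul_apply, MulAut.apply_inv_self]
    exact g.injective (by rw [MulAut.apply_inv_self, hgC c hc])
  have h1 := (ext_zS hγ (β⁻¹ c)).1
  rw [e1] at h1
  exact h1 (hfr.C_le hc)

include h hF hE in
/-- `C` is invariant. -/
theorem map_C {β : MulAut E} (hβ : β ∈ F.autGroup E) {c : E} (hc : (c : Ω) ∈ C) :
    (β c : Ω) ∈ C := by
  have h1 : (β c : Ω) ∈ zS S := by
    have := hfr.inv_mem_zS h hF hE (inv_mem hβ) hc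
    rwa [inv_inv] at this
  have h2 : (w (β c) : Ω) ∈ zS S := by
    have := hfr.inv_mem_zS h hF hE (inv_mem (mul_mem hfr.w_mem hβ)) hc
    rwa [inv_inv] at this
  obtain ⟨i, c', hc', he⟩ := hfr.z_decomp h1
  exact hfr.mem_C_of h hc' he h2

include h hF hE in
/-- On `C` the system is controlled by `S`. -/
theorem exists_ext_C {β : MulAut E} (hβ : β ∈ F.autGroup E) :
    ∃ γ ∈ F.autGroup S, ∀ c : E, (c : Ω) ∈ C → (γ ⟨c, hE.1.1 c.2⟩ : Ω) = β c := by
  obtain ⟨g, hg, hgC, -, γ, hγ, hγx⟩ := hfr.factor h hF hE hβ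
  refine ⟨γ, hγ, fun c hc => (hγx c).trans (congrArg Subtype.val ?_)⟩
  have h1 := hfr.map_C h hF hE (mul_mem (inv_mem hg) hβ) hc
  conv_rhs => rw [show β c = g ((g⁻¹ * β) c) by rw [MulAut.mul_apply, MulAut.apply_inv_self]]
  rw [hgC _ h1]

include h hF hE in
/-- The images of `e` and `f` lie in the plane spanned by them. -/
theorem map_gen {β : MulAut E} (hβ : β ∈ F.autGroup E) :
    β e ∈ closure ({e, f} : Set E) ∧ β f ∈ closure ({e, f} : Set E) := by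
  have key : ∀ β ∈ F.autGroup E, β e ∈ closure ({e, f} : Set E) := by
    intro β hβ
    obtain ⟨g, -, -, hgV, γ, -, hγ⟩ := hfr.factor h hF hE hβ
    obtain ⟨n, hn⟩ := CentralCommutator.exists_pow_eq (card_dz h) hfr.e_mem
      (fun e' => hfr.e_ne (Subtype.ext e')) (ext_dz hγ hfr.e_mem)
    have he : e ^ n = (g⁻¹ * β) e := Subtype.ext (by simpa using hn)
    rw [show β e = g (e ^ n) by rw [he, MulAut.mul_apply, MulAut.apply_inv_self]]
    exact hgV _ (pow_mem (subset_closure (Set.mem_insert e _)) n)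
  refine ⟨key β hβ, ?_⟩
  have h1 := inv_mem (key (β * w) (mul_mem hβ hfr.w_mem))
  rwa [MulAut.mul_apply, hfr.w_e, map_inv, inv_inv] at h1

include h hF hE in
/-- An automorphism of `S` normalising `E` normalises `C`. -/
theorem aut_map_C {γ : MulAut S} (hγ : γ ∈ F.autGroup S)
    (hγE : ∀ x : S, (x : Ω) ∈ E → (γ x : Ω) ∈ E) {c : S} (hc : (c : Ω) ∈ C) : (γ c : Ω) ∈ C := by
  have := finite_of_le hE.1.1
  obtain ⟨β, hβ, hβx⟩ := exists_aut_of_hom
    (restrict_mem (autGroup_hom_mem le_rfl hγ) hE.1.1) fun x => hγE _ x.2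
  have hcE : (c : Ω) ∈ E := zS_le_centric hE.1 (hfr.C_le hc)
  have h1 := hfr.map_C h hF hE hβ (c := ⟨c, hcE⟩) hc
  rw [hβx] at h1
  exact h1

include h hF hE in
/-- For odd `p` some automorphism of `S` inverts `[S, S]` and fixes `C`. -/
theorem exists_inversion : ∃ γ ∈ F.autGroup S, (∀ d : S, (d : Ω) ∈ dz S → γ d = d⁻¹) ∧
    (∀ c : S, (c : Ω) ∈ C → γ c = c) := by
  have hES := hE.1.1
  have hw2 : (w * w) e = e⁻¹ := by rw [MulAut.mul_apply, hfr.w_e, map_inv, hfr.w_f]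
  have hdp : ∀ d : E, (d : Ω) ∈ dz S → ∃ n : ℕ, e ^ n = d := fun d hd => by
    obtain ⟨n, hn⟩ := CentralCommutator.exists_pow_eq (card_dz h) hfr.e_mem
      (fun e' => hfr.e_ne (Subtype.ext e')) hd
    exact ⟨n, Subtype.ext (by simpa using hn)⟩
  have hinv : ∀ d : E, (d : Ω) ∈ dz S → (w * w) d = d⁻¹ := fun d hd => by
    obtain ⟨n, rfl⟩ := hdp d hd
    rw [map_pow, hw2, inv_pow]
  obtain ⟨γ, hγ, hγx⟩ := exists_ext h hF hE (mul_mem hfr.w_mem hfr.w_mem) fun d hd => by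
    rw [hinv d hd, Subgroup.coe_inv]
    exact inv_mem (dz_le_zS hd)
  refine ⟨γ, hγ, fun d hd => ?_, fun c hc => ?_⟩
  · have hdE : (d : Ω) ∈ E := zS_le_centric hE.1 (dz_le_zS hd)
    refine Subtype.ext ((hγx ⟨d, hdE⟩).trans ?_)
    rw [hinv ⟨d, hdE⟩ hd]
    rfl
  · have hcE : (c : Ω) ∈ E := zS_le_centric hE.1 (hfr.C_le hc)
    refine Subtype.ext ((hγx ⟨c, hcE⟩).trans ?_)
    rw [MulAut.mul_apply, hfr.w_C ⟨c, hcE⟩ hc, hfr.w_C ⟨c, hcE⟩ hc]

end Frame

end Cfsg.Agent.Lib.CentreIndexSq
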