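import Cfsg.Agent.Lib.CentreIndexSq.Group
import Cfsg.Agent.Lib.AbelianMaximal.Core
import Cfsg.Agent.Lib.Fusion.ExtraspecialNormal

/-!
Essential subgroups of a saturated fusion system over a `p`-group with centre of index `p²`: each
one is a direct product of a rank two elementary abelian group and a subgroup of the centre, and
its automorphisms come from transvections and automorphisms of `S`.
-/

set_option autoImplicit false
set_option linter.unusedSectionVars false

namespace Cfsg.Agent.Lib.CentreIndexSq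

open Subgroup Cfsg
open scoped commutatorElement
open Cfsg.FusionSystem hiding inv_mem conj_mem
open Cfsg.Agent.Lib Cfsg.Agent.Lib.Fusion
open Cfsg.Agent.Lib.AbelianMaximal (zS dz mem_zS_map_aut aut_mem_dz mem_center_iff_mem_zS stab
  isPGroup_stab')

variable {Ω : Type*} [Group Ω] {S : Subgroup Ω} {p : ℕ} [hp : Fact p.Prime] {F : FusionSystem S}
  [Finite S]

variable (h : SmallQuot p S)

include h

theorem dz_eq : dz S = (commutator S).map S.subtype := by
  refine le_antisymm inf_le_left (le_inf le_rfl ?_)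
  rintro _ ⟨c, hc, rfl⟩
  exact (mem_center_iff_mem_zS c).1 (h.commutator_le_center hc)

theorem card_dz : Nat.card (dz S) = p := by
  rw [dz_eq h, card_map_of_injective S.subtype_injective, h.card_commutator]

theorem comm_mem_dz {g x : Ω} (hg : g ∈ S) (hx : x ∈ S) : g * x * g⁻¹ * x⁻¹ ∈ dz S := by
  rw [dz_eq h]
  refine ⟨⁅(⟨g, hg⟩ : S), ⟨x, hx⟩⁆, ?_, by simp [commutatorElement_def]⟩
  exact commutator_mem_commutator (mem_top _) (mem_top _)

omit h in
theorem dz_le_zS : dz S ≤ zS S := inf_le_right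

omit h hp in
theorem zS_le_centric {E : Subgroup Ω} (hE : F.IsCentric E) : zS S ≤ E := fun z hz =>
  centralizerIn_le_of_isCentric hE ⟨hz.1, mem_centralizer_iff.2 fun u hu =>
    mem_centralizer_iff.1 hz.2 u (hE.1 hu)⟩

variable (hF : F.IsSaturated p) {E : Subgroup Ω} (hE : F.IsEssential p E)

include hF hE in
theorem ne_top' : E ≠ S := AbelianMaximal.ne_of_isEssential h.pgroup hF hE

include hE in
theorem center_le_subgroupOf : center S ≤ E.subgroupOf S := fun u hu =>
  zS_le_centric hE.1 ((mem_center_iff_mem_zS u).1 hu)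

include hF hE in
theorem subgroupOf_ne_top : E.subgroupOf S ≠ ⊤ := fun e =>
  ne_top' h hF hE (le_antisymm hE.1.1 (subgroupOf_eq_top.1 e))

include hF hE in
theorem ess_comm {u v : Ω} (hu : u ∈ E) (hv : v ∈ E) : u * v = v * u :=
  congrArg Subtype.val (h.commute_of_between (center_le_subgroupOf h hE) (subgroupOf_ne_top h hF hE)
    (u := ⟨u, hE.1.1 hu⟩) (r := ⟨v, hE.1.1 hv⟩) hu hv)

include hE in
theorem mem_normalizer' {g : Ω} (hg : g ∈ S) : g ∈ normalizer (E : Set Ω) := by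
  have := finite_of_le hE.1.1
  refine mem_normalizer_fintype (S := (E : Set Ω)) fun x hx => ?_
  have h1 := zS_le_centric hE.1 (dz_le_zS (comm_mem_dz h hg (hE.1.1 hx)))
  have := E.mul_mem h1 hx
  rwa [inv_mul_cancel_right] at this

include hF hE in
/-- An element outside `E` fixes exactly the centre. -/
theorem fix_iff {g : Ω} (hg : g ∈ S) (hgE : g ∉ E) (x : E) :
    conjAut E g (mem_normalizer' h hE hg) x = x ↔ (x : Ω) ∈ zS S := by
  rw [Subtype.ext_iff, conjAut_apply, mul_inv_eq_iff_eq_mul]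
  constructor
  · intro e
    by_contra hx
    exact hgE (h.mem_of_commute (center_le_subgroupOf h hE) (subgroupOf_ne_top h hF hE)
      (r := ⟨x, hE.1.1 x.2⟩) (u := ⟨g, hg⟩) x.2
      (fun hc => hx ((mem_center_iff_mem_zS _).1 hc)) (Subtype.ext e))
  · intro hx
    exact mem_centralizer_iff.1 hx.2 g hg

include hE in
theorem autS_stab {a : MulAut E} (ha : a ∈ autInducedBy S E) :
    a ∈ stab ((zS S).subgroupOf E) ∧ ∀ x : E, ((a x * x⁻¹ : E) : Ω) ∈ dz S := by
  obtain ⟨g, hg, hgx⟩ := mem_autInducedBy.1 ha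
  have hd : ∀ x : E, ((a x * x⁻¹ : E) : Ω) ∈ dz S := fun x => by
    rw [Subgroup.coe_mul, Subgroup.coe_inv, hgx]
    exact comm_mem_dz h hg (hE.1.1 x.2)
  refine ⟨⟨fun u hu => Subtype.ext ?_, fun v => dz_le_zS (hd v)⟩, hd⟩
  rw [hgx, mem_centralizer_iff.1 (mem_subgroupOf.1 hu).2 g hg, mul_inv_cancel_right]

include hF hE in
/-- An automorphism mapping `[S, S]` into the centre normalises `Aut_S(E)`. -/
theorem conj_mem_autS {α : MulAut E} (hα : α ∈ F.autGroup E)
    (hm : ∀ d : E, (d : Ω) ∈ dz S → (α d : Ω) ∈ zS S) {a : MulAut E} (ha : a ∈ autInducedBy S E) :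
    α * a * α⁻¹ ∈ autInducedBy S E := by
  have hES := hE.1.1
  have := finite_of_le hES
  have := finite_autGroup (F := F) hES
  have hsyl := AbelianMaximal.isSylowIn_autInducedBy h.pgroup hF hE
  set y := α * a * α⁻¹ with hy
  have hyF : y ∈ F.autGroup E :=
    mul_mem (mul_mem hα (autInducedBy_le_autGroup hES ha)) (inv_mem hα)
  set K := stab ((zS S).subgroupOf E) ⊓ F.autGroup E with hK
  have hKp : IsPGroup p K :=
    (isPGroup_stab' (h.pgroup.to_le hES) _).to_le inf_le_left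
  have hymap : ∀ u : E, (u : Ω) ∈ zS S → (y u : Ω) ∈ zS S := by
    intro u hu
    have e : y u = α (a (α⁻¹ u) * (α⁻¹ u)⁻¹) * u := by
      simp [hy, MulAut.mul_apply, map_mul, map_inv]
    rw [e]
    exact mul_mem (hm _ ((autS_stab h hE ha).2 _)) hu
  have hymap' : ∀ u, y u ∈ (zS S).subgroupOf E ↔ u ∈ (zS S).subgroupOf E := by
    intro u
    refine ⟨fun hu => ?_, hymap u⟩
    obtain ⟨v, hv, hve⟩ := (CentralCommutator.map_eq_of_mapsTo (W := zS S) hymap).ge hu
    rwa [← y.injective hve]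
  have hynorm : zpowers y ≤ normalizer (K : Set (MulAut E)) := by
    rw [zpowers_le]
    have : Finite (MulAut E) := finite_mulAut hES
    refine mem_normalizer_fintype (S := (K : Set (MulAut E))) fun k hk => ?_
    exact Subgroup.mem_inf.2 ⟨AbelianMaximal.stab_conj hymap' (Subgroup.mem_inf.1 hk).1,
      (F.autGroup E).mul_mem ((F.autGroup E).mul_mem hyF (Subgroup.mem_inf.1 hk).2)
        ((F.autGroup E).inv_mem hyF)⟩
  have hyp : IsPGroup p (zpowers y) := by
    have ha' : IsPGroup p (zpowers a) :=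
      (isPGroup_autInducedBy (P := E) h.pgroup).to_le (zpowers_le.2 ha)
    rw [hy, ← MulAut.conj_apply, ← MulEquiv.coe_toMonoidHom, ← MonoidHom.map_zpowers]
    exact ha'.map _
  have hLp := hyp.to_sup_of_normal_right' hKp hynorm
  have hle : autInducedBy S E ≤ zpowers y ⊔ K := fun b hb =>
    mem_sup_right ⟨(autS_stab h hE hb).1, autInducedBy_le_autGroup hES hb⟩
  rw [hsyl.eq_of_le hLp (sup_le (zpowers_le.2 hyF) inf_le_right) hle]
  exact mem_sup_left (mem_zpowers y)

include hF hE in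
/-- An automorphism mapping `[S, S]` into the centre extends to `S`. -/
theorem exists_ext {α : MulAut E} (hα : α ∈ F.autGroup E)
    (hm : ∀ d : E, (d : Ω) ∈ dz S → (α d : Ω) ∈ zS S) :
    ∃ γ ∈ F.autGroup S, ∀ x : E, (γ ⟨x, hE.1.1 x.2⟩ : Ω) = α x := by
  obtain ⟨γ, hγ, hγx⟩ := CentralCommutator.exists_extension h.pgroup hF hE.2.1
    (fun g hg => mem_normalizer' h hE hg) hα fun g hg =>
      conj_mem_autS h hF hE hα hm (mem_autInducedBy.2 ⟨g, hg, fun _ => rfl⟩)
  exact ⟨γ, hγ, fun x => hγx x _⟩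

omit h hp in
theorem ext_dz {γ : MulAut S} {α : MulAut E} {hES : E ≤ S}
    (hγ : ∀ x : E, (γ ⟨x, hES x.2⟩ : Ω) = α x) {d : E} (hd : (d : Ω) ∈ dz S) :
    (α d : Ω) ∈ dz S := hγ d ▸ aut_mem_dz γ hd

omit h hp in
theorem ext_zS {γ : MulAut S} {α : MulAut E} {hES : E ≤ S}
    (hγ : ∀ x : E, (γ ⟨x, hES x.2⟩ : Ω) = α x) (z : E) :
    (α z : Ω) ∈ zS S ↔ (z : Ω) ∈ zS S := hγ z ▸ mem_zS_map_aut (z := (⟨z, hES z.2⟩ : S)) γ

include hF hE in
theorem exists_moving :
    ∃ α ∈ F.autGroup E, ∃ d : E, (d : Ω) ∈ dz S ∧ (α d : Ω) ∉ zS S := by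
  by_contra hcon
  push Not at hcon
  have hES := hE.1.1
  obtain ⟨g, hg, hgE⟩ := SetLike.exists_of_lt (lt_of_le_of_ne hES (ne_top' h hF hE))
  have hle := AbelianMaximal.le_inn_of_isEssential h.pgroup hE (autInducedBy_le_autGroup hES)
    (fun β hβ k hk => conj_mem_autS h hF hE hβ (hcon β hβ) hk) (isPGroup_autInducedBy h.pgroup)
  obtain ⟨y, hy⟩ := hle (mem_autInducedBy.2 ⟨g, hg, fun x => rfl⟩ :
    conjAut E g (mem_normalizer' h hE hg) ∈ autInducedBy S E)
  refine ne_top' h hF hE (le_antisymm hES ?_)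
  have hall : ∀ x : E, (x : Ω) ∈ zS S := fun x => (fix_iff h hF hE hg hgE x).1 (by
    rw [← hy]
    refine Subtype.ext ?_
    show (y : Ω) * x * (y : Ω)⁻¹ = x
    rw [ess_comm h hF hE y.2 x.2, mul_inv_cancel_right])
  refine fun s hs => centralizerIn_le_of_isCentric hE.1 ⟨hs, mem_centralizer_iff.2 fun x hx => ?_⟩
  exact (mem_centralizer_iff.1 (hall ⟨x, hx⟩).2 s hs).symm

/-- `E` is the product of `⟨e⟩ = [S, S]`, `⟨f⟩` and `C ≤ Z(S)`; `a` is the transvection induced by
`S` and `w` exchanges the two lines. -/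
structure Frame (F : FusionSystem S) (p : ℕ) (E C : Subgroup Ω) (e f : E) (a w : MulAut E) :
    Prop where
  e_mem : (e : Ω) ∈ dz S
  e_ne : e ≠ 1
  f_not_mem : (f : Ω) ∉ zS S
  f_pow : f ^ p = 1
  a_mem : a ∈ autInducedBy S E
  a_e : a e = e
  a_f : a f = f * e
  a_C : ∀ c : E, (c : Ω) ∈ C → a c = c
  w_mem : w ∈ F.autGroup E
  w_e : w e = f⁻¹
  w_f : w f = e
  w_C : ∀ c : E, (c : Ω) ∈ C → w c = c
  C_le : C ≤ zS S
  C_dz : ∀ x ∈ C, x ∈ dz S → x = 1
  decomp : ∀ u : E, ∃ (i j : ℤ) (c : E), (c : Ω) ∈ C ∧ u = e ^ i * f ^ j * c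

include hF hE in
theorem exists_frame :
    ∃ (C : Subgroup Ω) (e f : E) (a w : MulAut E), Frame F p E C e f a w := by
  have hES := hE.1.1
  have := finite_of_le hES
  have hD := card_dz h
  have cm : ∀ u v : E, u * v = v * u := fun u v => Subtype.ext (ess_comm h hF hE u.2 v.2)
  have hzE := zS_le_centric hE.1
  have hdpow : ∀ (d u : E), (d : Ω) ∈ dz S → d ≠ 1 → (u : Ω) ∈ dz S → ∃ n : ℕ, d ^ n = u := by
    intro d u hd hd1 hu
    obtain ⟨n, hn⟩ := CentralCommutator.exists_pow_eq hD hd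
      (fun e => hd1 (Subtype.ext e)) hu
    exact ⟨n, Subtype.ext (by simpa using hn)⟩
  obtain ⟨α, hα, d₀, hd₀, hmove⟩ := exists_moving h hF hE
  have hd₀1 : d₀ ≠ 1 := fun e => hmove (by rw [e, map_one]; exact one_mem _)
  obtain ⟨g, hg, hgE⟩ := SetLike.exists_of_lt (lt_of_le_of_ne hES (ne_top' h hF hE))
  set x := conjAut E g (mem_normalizer' h hE hg) with hx
  have hxS : x ∈ autInducedBy S E := mem_autInducedBy.2 ⟨g, hg, fun _ => rfl⟩
  have hxfix : ∀ u : E, x u = u ↔ (u : Ω) ∈ zS S := fix_iff h hF hE hg hgE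
  have hxd := (autS_stab h hE hxS).2
  set f := α d₀ with hf
  set e := x f * f⁻¹ with he
  have hxf : x f = f * e := by rw [cm f e, he, inv_mul_cancel_right]
  have heD : (e : Ω) ∈ dz S := hxd f
  have he1 : e ≠ 1 := fun e' => hmove ((hxfix f).1 (by rw [hxf, e', mul_one]))
  have heZ : (e : Ω) ∈ zS S := dz_le_zS heD
  have heα : (α⁻¹ e : Ω) ∉ zS S := by
    intro hmem
    have hm : ∀ d : E, (d : Ω) ∈ dz S → (α⁻¹ d : Ω) ∈ zS S := fun d hd => by
      obtain ⟨n, hn⟩ := hdpow e d heD he1 hd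
      rw [← hn, map_pow, Subgroup.coe_pow]
      exact pow_mem hmem n
    obtain ⟨γ, -, hγ⟩ := exists_ext h hF hE (inv_mem hα) hm
    obtain ⟨n, hn⟩ := hdpow (α⁻¹ e) d₀ (ext_dz hγ heD)
      (fun e' => he1 (α⁻¹.injective (e'.trans (map_one _).symm))) hd₀
    refine hmove ?_
    show (α d₀ : Ω) ∈ zS S
    rw [← hn, map_pow, MulAut.apply_inv_self, Subgroup.coe_pow]
    exact pow_mem heZ n
  set y := α * x * α⁻¹ with hy
  have hyfix : ∀ u : E, y u = u ↔ (α⁻¹ u : Ω) ∈ zS S := fun u => by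
    rw [← hxfix (α⁻¹ u), hy, MulAut.mul_apply, MulAut.mul_apply]
    exact ⟨fun e' => α.injective (e'.trans (α.apply_symm_apply u).symm),
      fun e' => by rw [e', MulAut.apply_inv_self]⟩
  have hymove : ∀ u : E, ∃ n : ℕ, y u = u * f ^ n := fun u => by
    obtain ⟨n, hn⟩ := hdpow d₀ _ hd₀ hd₀1 (hxd (α⁻¹ u))
    refine ⟨n, ?_⟩
    rw [cm u, hf, ← map_pow, hn, map_mul, map_inv, MulAut.apply_inv_self, inv_mul_cancel_right]
    rfl
  have hfp : f ^ p = 1 := by
    rw [hf, ← map_pow, show d₀ ^ p = 1 from Subtype.ext (by simpa using CentralCommutator.pow_eq_one hD hd₀), map_one]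
  have hyf : y f = f := (hyfix f).2 (by rw [hf, MulAut.inv_apply_self]; exact dz_le_zS hd₀)
  obtain ⟨n, hn⟩ := hymove e
  have hnp : ¬ p ∣ n := by
    rintro ⟨k, rfl⟩
    exact heα ((hyfix e).1 (by rw [hn, pow_mul, hfp, one_pow, mul_one]))
  have hypow : ∀ k : ℕ, (y ^ k) e = e * f ^ (n * k) := by
    intro k
    induction k with
    | zero => simp
    | succ k ih =>
      rw [pow_succ', MulAut.mul_apply, ih, map_mul, map_pow, hyf, hn, mul_assoc, ← pow_add,
        Nat.mul_succ, Nat.add_comm n]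
  obtain ⟨k, -, hk⟩ := Nat.exists_mul_mod_eq_one_of_coprime
    (Nat.Coprime.symm ((hp.out.coprime_iff_not_dvd).2 hnp)) hp.out.one_lt
  have hbe : (y ^ k) e = e * f := by
    rw [hypow, ← Nat.mod_add_div (n * k) p, hk, pow_add, pow_mul, hfp, one_pow, pow_one, mul_one]
  set b := y ^ k with hb
  set C := (zS S ⊓ (((zS S).subgroupOf E).map α.toMonoidHom).map E.subtype : Subgroup Ω) with hC
  have hCmem : ∀ c : E, (c : Ω) ∈ C ↔ (c : Ω) ∈ zS S ∧ (α⁻¹ c : Ω) ∈ zS S := by
    intro c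
    constructor
    · rintro ⟨h1, v, ⟨u, hu, rfl⟩, hv⟩
      obtain rfl : α u = c := Subtype.ext hv
      rw [MulAut.inv_apply_self]
      exact ⟨h1, hu⟩
    · exact fun ⟨h1, h2⟩ => ⟨h1, c, ⟨α⁻¹ c, h2, α.apply_symm_apply c⟩, rfl⟩
  have hxe : x e = e := (hxfix e).2 heZ
  have hxC : ∀ c : E, (c : Ω) ∈ C → x c = c := fun c hc => (hxfix c).2 ((hCmem c).1 hc).1
  have hbC : ∀ c : E, (c : Ω) ∈ C → b c = c := fun c hc =>
    pow_mem (show y ∈ MulAction.stabilizer (MulAut E) c from (hyfix c).2 ((hCmem c).1 hc).2) k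
  have hbf : b f = f := pow_mem (show y ∈ MulAction.stabilizer (MulAut E) f from hyf) k
  have hbinv : b⁻¹ f = f ∧ b⁻¹ e = e * f⁻¹ := by
    constructor <;> refine b.injective ?_ <;> rw [MulAut.apply_inv_self]
    · rw [hbf]
    · rw [map_mul, map_inv, hbf, hbe, mul_inv_cancel_right]
  refine ⟨C, e, f, x, x * b⁻¹ * x, heD, he1, hmove, hfp, hxS, hxe, hxf, hxC, ?_, ?_, ?_, ?_,
    inf_le_left, ?_, ?_⟩
  · have hxF := autInducedBy_le_autGroup (F := F) hES hxS
    have hyF : y ∈ F.autGroup E := mul_mem (mul_mem hα hxF) (inv_mem hα)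
    exact mul_mem (mul_mem hxF (inv_mem (pow_mem hyF k))) hxF
  · simp only [MulAut.mul_apply, hxe, hbinv.2, map_mul, map_inv, hxf]
    rw [cm f e, mul_inv_rev, cm f⁻¹ e⁻¹, mul_inv_cancel_left]
  · simp only [MulAut.mul_apply, hxf, map_mul, hbinv.1, hbinv.2]
    rw [hxe, map_inv, hxf, cm e (f * e)⁻¹, mul_inv_cancel_left]
  · intro c hc
    have hbi : b⁻¹ c = c := b.injective (by rw [MulAut.apply_inv_self, hbC c hc])
    simp only [MulAut.mul_apply, hxC c hc, hbi]
  · intro u hu hud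
    have huE : u ∈ E := hzE hu.1
    by_contra hu1
    obtain ⟨m, hm⟩ := hdpow ⟨u, huE⟩ e hud (fun e' => hu1 (congrArg Subtype.val e')) heD
    refine heα ?_
    rw [← hm, map_pow, Subgroup.coe_pow]
    exact pow_mem ((hCmem ⟨u, huE⟩).1 hu).2 m
  · intro u
    obtain ⟨j, hj⟩ := hdpow e _ heD he1 (hxd u)
    set u₁ := u * (f ^ j)⁻¹ with hu₁
    have hu₁Z : (u₁ : Ω) ∈ zS S := (hxfix u₁).1 (by
      have hxu : x u = u * e ^ j := by rw [hj, cm u, inv_mul_cancel_right]
      have hc : Commute f e := cm f e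
      rw [hu₁, map_mul, map_inv, map_pow, hxf, hxu, hc.mul_pow, mul_inv_rev, ← mul_assoc,
        mul_inv_cancel_right])
    obtain ⟨i, hi⟩ := hymove u₁
    have hki : ∀ m : ℕ, (y ^ m) u₁ = u₁ * f ^ (i * m) := by
      intro m
      induction m with
      | zero => simp
      | succ m ih =>
        rw [pow_succ', MulAut.mul_apply, ih, map_mul, map_pow, hyf, hi, mul_assoc, ← pow_add,
          Nat.mul_succ, Nat.add_comm i]
    set c := u₁ * (e ^ (i * k))⁻¹ with hc
    have hbc : b c = c := by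
      have hce : Commute e f := cm e f
      rw [hc, map_mul, map_inv, map_pow, hb, hki, ← hb, hbe, hce.mul_pow, mul_inv_rev, ← mul_assoc,
        mul_inv_cancel_right]
    have hyc : y c = c := by
      obtain ⟨m, hm⟩ := hymove c
      by_contra hne
      have hmp : ¬ p ∣ m := by
        rintro ⟨q, rfl⟩
        exact hne (by rw [hm, pow_mul, hfp, one_pow, mul_one])
      have hbm : ∀ q : ℕ, (y ^ q) c = c * f ^ (m * q) := by
        intro q
        induction q with
        | zero => simp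
        | succ q ih =>
          rw [pow_succ', MulAut.mul_apply, ih, map_mul, map_pow, hyf, hm, mul_assoc, ← pow_add,
            Nat.mul_succ, Nat.add_comm m]
      have h1 : f ^ (m * k) = 1 := mul_eq_left.1 ((hbm k).symm.trans hbc)
      have hford : orderOf f = p :=
        orderOf_eq_prime hfp fun e' => hmove (by rw [e']; exact one_mem _)
      have := orderOf_dvd_of_pow_eq_one h1
      rw [hford] at this
      rcases hp.out.dvd_mul.1 this with h2 | ⟨q, rfl⟩
      · exact hmp h2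
      · rw [mul_left_comm, Nat.mul_mod_right] at hk
        exact zero_ne_one hk
    refine ⟨(i * k : ℕ), (j : ℕ), c, (hCmem c).2 ⟨?_, (hyfix c).1 hyc⟩, ?_⟩
    · rw [hc, Subgroup.coe_mul, Subgroup.coe_inv, Subgroup.coe_pow]
      exact mul_mem hu₁Z (inv_mem (pow_mem heZ _))
    · rw [zpow_natCast, zpow_natCast, cm (e ^ (i * k)), mul_assoc, cm (e ^ (i * k)), hc,
        inv_mul_cancel_right, hu₁, cm (f ^ j), inv_mul_cancel_right]

end Cfsg.Agent.Lib.CentreIndexSq
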