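import Mathlib
import Cfsg.Prelude.Def_Transfer
import Cfsg.Agent.Lib.PGroup.Frattini
import Cfsg.Agent.Lib.AutOrbits.CentralCommutator

/-!
A finite nonabelian `p`-group whose centre has index at most `p²`.
-/

set_option autoImplicit false
set_option linter.unusedSectionVars false

namespace Cfsg.Agent.Lib.CentreIndexSq

open Subgroup

variable {p : ℕ} [hp : Fact p.Prime]

/-- A nonabelian finite `p`-group with centre of index at most `p²`. -/
structure SmallQuot (p : ℕ) (G : Type*) [Group G] : Prop where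
  pgroup : IsPGroup p G
  nab : ∃ a b : G, a * b ≠ b * a
  le_sq : (center G).index ≤ p ^ 2

variable {G : Type*} [Group G] [Finite G]

namespace SmallQuot

variable (h : SmallQuot p G)

include h

theorem not_isCyclic : ¬ IsCyclic (G ⧸ center G) := fun hc => by
  obtain ⟨a, b, hab⟩ := h.nab
  exact hab (((QuotientGroup.mk' (center G)).isMulCommutative_of_isCyclic_of_ker_le_center
    (QuotientGroup.ker_mk' _).le).is_comm.comm a b)

theorem index_center : (center G).index = p ^ 2 := by
  obtain ⟨k, hk⟩ := h.pgroup.index (center G)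
  have hk2 : k ≤ 2 := (Nat.pow_le_pow_iff_right hp.out.one_lt).1 (hk ▸ h.le_sq)
  rcases (show k = 0 ∨ k = 1 ∨ k = 2 by omega) with rfl | rfl | rfl
  · obtain ⟨a, b, hab⟩ := h.nab
    rw [pow_zero, index_eq_one] at hk
    exact absurd (mem_center_iff.1 (hk ▸ mem_top b) a) hab
  · rw [pow_one, index_eq_card] at hk
    exact absurd (isCyclic_of_prime_card hk) h.not_isCyclic
  · exact hk

theorem card_eq : Nat.card G = p ^ 2 * Nat.card (center G) := by
  rw [← card_mul_index (center G), h.index_center, Nat.mul_comm]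

theorem comm_mem (u v : G) : u * v * u⁻¹ * v⁻¹ ∈ center G := by
  have hc : Nat.card (G ⧸ center G) = p ^ 2 := by rw [← index_eq_card]; exact h.index_center
  have e := (IsPGroup.isMulCommutative_of_card_eq_prime_sq hc).is_comm.comm
    (QuotientGroup.mk u) (QuotientGroup.mk v)
  rw [← QuotientGroup.eq_one_iff, QuotientGroup.mk_mul, QuotientGroup.mk_mul, QuotientGroup.mk_mul,
    QuotientGroup.mk_inv, QuotientGroup.mk_inv, e, mul_inv_cancel_right, mul_inv_cancel]

theorem pow_mem (u : G) : u ^ p ∈ center G := by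
  have hc : Nat.card (G ⧸ center G) = p ^ 2 := by rw [← index_eq_card]; exact h.index_center
  have hd : orderOf (QuotientGroup.mk u : G ⧸ center G) ∣ p ^ 2 := hc ▸ orderOf_dvd_natCard _
  obtain ⟨i, hi, hie⟩ := (Nat.dvd_prime_pow hp.out).1 hd
  rw [← QuotientGroup.eq_one_iff, QuotientGroup.mk_pow]
  rcases (show i ≤ 1 ∨ i = 2 by omega) with hi1 | rfl
  · refine orderOf_dvd_iff_pow_eq_one.1 ?_
    rw [hie]
    exact (Nat.pow_dvd_pow p hi1).trans (pow_one p).dvd
  · exact absurd (isCyclic_of_orderOf_eq_card _ (hie.trans hc.symm)) h.not_isCyclic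

theorem index_of_between {H : Subgroup G} (h1 : center G < H) (h2 : H ≠ ⊤) : H.index = p := by
  have hd : H.index ∣ p ^ 2 := h.index_center ▸ index_dvd_of_le h1.le
  obtain ⟨i, hi, hie⟩ := (Nat.dvd_prime_pow hp.out).1 hd
  rcases (show i = 0 ∨ i = 1 ∨ i = 2 by omega) with rfl | rfl | rfl
  · exact absurd (index_eq_one.1 (hie.trans (pow_zero p))) h2
  · rw [hie, pow_one]
  · have e := (relIndex_mul_index h1.le).trans (h.index_center.trans hie.symm)
    have e1 : (center G).relIndex H = 1 :=
      Nat.eq_of_mul_eq_mul_right (Nat.pos_of_ne_zero index_ne_zero_of_finite)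
        (e.trans (one_mul _).symm)
    exact absurd (relIndex_eq_one.1 e1) (not_le_of_gt h1)

theorem eq_of_between {H K : Subgroup G} (h1 : center G < H) (hHK : H ≤ K) (h2 : K ≠ ⊤) :
    H = K := by
  have eH := h.index_of_between h1 fun e => h2 (top_le_iff.1 (e ▸ hHK))
  have eK := h.index_of_between (h1.trans_le hHK) h2
  refine le_antisymm hHK ?_
  rw [← relIndex_eq_one]
  exact Nat.eq_of_mul_eq_mul_right (eK.symm ▸ hp.out.pos)
    ((relIndex_mul_index hHK).trans ((one_mul _).trans eK |>.trans eH.symm).symm)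

theorem eq_top_of_not_le {H K : Subgroup G} (h1 : center G < H) (hHK : H ≤ K) (h2 : ¬ K ≤ H) :
    K = ⊤ :=
  by_contra fun e => h2 (h.eq_of_between h1 hHK e).ge

theorem centralizer_data {H : Subgroup G} (h1 : center G ≤ H) (h2 : H ≠ ⊤) {r : G} (hr : r ∈ H)
    (hrZ : r ∉ center G) : H = centralizer {r} := by
  have hK1 : center G < H ⊓ centralizer {r} := by
    refine lt_of_le_of_ne (le_inf h1 (center_le_centralizer _)) fun e => hrZ ?_
    rw [e]
    exact ⟨hr, mem_centralizer_singleton_iff.2 rfl⟩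
  have hK2 : centralizer ({r} : Set G) ≠ ⊤ := fun e => hrZ (mem_center_iff.2 fun g =>
    mem_centralizer_singleton_iff.1 (e ▸ mem_top g))
  exact ((h.eq_of_between hK1 inf_le_left h2).symm.trans (h.eq_of_between hK1 inf_le_right hK2))

theorem mem_of_commute {H : Subgroup G} (h1 : center G ≤ H) (h2 : H ≠ ⊤) {r u : G} (hr : r ∈ H)
    (hrZ : r ∉ center G) (hu : u * r = r * u) : u ∈ H :=
  (h.centralizer_data h1 h2 hr hrZ) ▸ mem_centralizer_singleton_iff.2 hu

theorem commute_of_between {H : Subgroup G} (h1 : center G ≤ H) (h2 : H ≠ ⊤) {u r : G} (hu : u ∈ H)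
    (hr : r ∈ H) : u * r = r * u := by
  by_cases hrZ : r ∈ center G
  · exact mem_center_iff.1 hrZ u
  · exact mem_centralizer_singleton_iff.1 (h.centralizer_data h1 h2 hr hrZ ▸ hu)

theorem eq_of_common {H K : Subgroup G} (h1 : center G ≤ H) (h2 : H ≠ ⊤) (h1' : center G ≤ K)
    (h2' : K ≠ ⊤) {r : G} (hr : r ∈ H) (hr' : r ∈ K) (hrZ : r ∉ center G) : H = K :=
  (h.centralizer_data h1 h2 hr hrZ).trans (h.centralizer_data h1' h2' hr' hrZ).symm

/-- Commutation with a fixed element. -/
def cm (u : G) : G →* G where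
  toFun v := u * v * u⁻¹ * v⁻¹
  map_one' := by simp
  map_mul' v w := by
    have e := mem_center_iff.1 (h.comm_mem u w) v⁻¹
    calc u * (v * w) * u⁻¹ * (v * w)⁻¹
        = u * v * u⁻¹ * (u * w * u⁻¹ * w⁻¹ * v⁻¹) := by group
      _ = u * v * u⁻¹ * v⁻¹ * (u * w * u⁻¹ * w⁻¹) := by rw [← e, ← mul_assoc]

theorem cm_apply (u v : G) : h.cm u v = u * v * u⁻¹ * v⁻¹ := rfl

theorem cm_inv (u v : G) : h.cm v u = (h.cm u v)⁻¹ := by
  simp [cm_apply, mul_assoc]

theorem cm_pow (u v : G) : h.cm u v ^ p = 1 := by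
  rw [← map_pow, cm_apply, mem_center_iff.1 (h.pow_mem v) u]
  group

theorem card_commutator : Nat.card (commutator G) = p := by
  obtain ⟨a, b, hab⟩ := h.nab
  set c := h.cm a b with hc
  have hc1 : c ≠ 1 := fun e => hab (mul_inv_eq_iff_eq_mul.1 (mul_inv_eq_one.1 e))
  have hone : ∀ u v, h.cm u v = 1 ↔ u * v = v * u := fun u v => by
    rw [cm_apply, mul_inv_eq_one, mul_inv_eq_iff_eq_mul]
  have hgen : ∀ u, h.cm u a ∈ zpowers c → h.cm u b ∈ zpowers c → ∀ v, h.cm u v ∈ zpowers c := by
    intro u ha hb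
    have hZ : center G ≤ (zpowers c).comap (h.cm u) := fun z hz => by
      show h.cm u z ∈ zpowers c
      rw [(hone u z).2 (mem_center_iff.1 hz u)]
      exact one_mem _
    have hA : center G < center G ⊔ zpowers a := by
      refine lt_of_le_of_ne le_sup_left fun e => hab ?_
      exact (mem_center_iff.1 (e ▸ mem_sup_right (mem_zpowers a)) b).symm
    have htop : (zpowers c).comap (h.cm u) = ⊤ := by
      refine h.eq_top_of_not_le hA (sup_le hZ (zpowers_le.2 ha)) fun hle => hab ?_
      have hb' : b ∈ center G ⊔ zpowers a := hle hb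
      have : center G ⊔ zpowers a ≤ centralizer {a} :=
        sup_le (center_le_centralizer _) (zpowers_le.2 (mem_centralizer_singleton_iff.2 rfl))
      exact (mem_centralizer_singleton_iff.1 (this hb')).symm
    exact fun v => (htop ▸ mem_top v : v ∈ (zpowers c).comap (h.cm u))
  have hA := hgen a (by rw [(hone a a).2 rfl]; exact one_mem _) (mem_zpowers c)
  have hB := hgen b (by rw [h.cm_inv a b]; exact inv_mem (mem_zpowers c))
    (by rw [(hone b b).2 rfl]; exact one_mem _)
  have hall : ∀ u v, h.cm u v ∈ zpowers c := fun u => hgen u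
    (by rw [h.cm_inv a u]; exact inv_mem (hA u)) (by rw [h.cm_inv b u]; exact inv_mem (hB u))
  have heq : commutator G = zpowers c := by
    refine le_antisymm ?_ (zpowers_le.2 ?_)
    · rw [commutator_def, commutator_le]
      intro u _ v _
      rw [commutatorElement_def]
      exact hall u v
    · rw [hc, cm_apply, ← commutatorElement_def, commutator_def]
      exact commutator_mem_commutator (mem_top a) (mem_top b)
  rw [heq, Nat.card_zpowers]
  exact orderOf_eq_prime (h.cm_pow a b) hc1

theorem commutator_le_center : commutator G ≤ center G := by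
  rw [commutator_def, commutator_le]
  intro u _ v _
  rw [commutatorElement_def]
  exact h.comm_mem u v

theorem mul_pow_prime (hp2 : p ≠ 2) (a b : G) : (a * b) ^ p = a ^ p * b ^ p := by
  have hd : h.cm b⁻¹ a⁻¹ ∈ center G := h.comm_mem _ _
  rw [AutOrbits.mul_pow_central (d := h.cm b⁻¹ a⁻¹) hd (by simp [cm_apply, mul_assoc])]
  obtain ⟨k, hk⟩ := hp.out.dvd_choose_self (k := 2) two_ne_zero
    (lt_of_le_of_ne hp.out.two_le (Ne.symm hp2))
  rw [hk, pow_mul, h.cm_pow, one_pow, mul_one]

theorem isExtraspecial (hc : Nat.card (center G) = p) : IsExtraspecial p G := by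
  have heq : commutator G = center G :=
    eq_of_le_of_card_ge h.commutator_le_center (by rw [hc, h.card_commutator])
  refine ⟨⟨h.pgroup, le_antisymm (Lib.PFrattini.frattini_le h.commutator_le_center h.pow_mem) ?_,
    heq⟩, hc⟩
  rw [← heq]
  exact Lib.PFrattini.commutator_le_frattini h.pgroup

end SmallQuot

end Cfsg.Agent.Lib.CentreIndexSq
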