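import Cfsg.Agent.Lib.CentreIndexSq.Aut

/-!
Core-free systems over a `p`-group with centre of index `p²`, `p` odd: extraspecial of exponent `p`.
-/

set_option autoImplicit false
set_option linter.unusedSectionVars false

namespace Cfsg.Agent.Lib.CentreIndexSq

open Subgroup Cfsg
open Cfsg.FusionSystem hiding inv_mem conj_mem
open Cfsg.Agent.Lib Cfsg.Agent.Lib.Fusion
open Cfsg.Agent.Lib.AbelianMaximal (zS dz mem_zS_map_aut aut_mem_dz mem_center_iff_mem_zS eq_on_zS
  map_eq_self_of_forall_mem)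

variable {Ω : Type*} [Group Ω] {S : Subgroup Ω} {p : ℕ} [hp : Fact p.Prime] {F : FusionSystem S}
  [Finite S]

variable (h : SmallQuot p S) (hF : F.IsSaturated p) (hcore : F.core = ⊥)

include h hF hcore

theorem exists_essential : ∃ E, F.IsEssential p E := by
  by_contra hcon
  push Not at hcon
  have hZ : zS S = ⊥ := eq_bot_iff.2 (hcore ▸ le_core (isNormal_of_aut h.pgroup hF (by
    rintro P (rfl | hP)
    · exact ⟨inf_le_left, fun β _ => map_eq_self_of_forall_mem fun u hu =>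
        mem_subgroupOf.2 ((mem_zS_map_aut β).2 hu)⟩
    · exact absurd hP (hcon P))))
  have h1 := card_dz h
  rw [show dz S = ⊥ from eq_bot_iff.2 (hZ ▸ dz_le_zS), card_bot] at h1
  exact hp.out.ne_one h1.symm

/-- A normal subgroup inside every frame complement is trivial, so the centre is `[S, S]`. -/
theorem card_center_of_frame {E C : Subgroup Ω} (hE : F.IsEssential p E) {e f : E} {a w : MulAut E}
    (hfr : Frame F p E C e f a w) (hC : F.IsNormal C) : Nat.card (center S) = p := by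
  have hC1 : C = ⊥ := eq_bot_iff.2 (hcore ▸ le_core hC)
  have hle : zS S ≤ dz S := by
    intro z hz
    obtain ⟨i, c, hc, he⟩ := hfr.z_decomp (z := ⟨z, zS_le_centric hE.1 hz⟩) hz
    rw [hC1, mem_bot] at hc
    have h1 := congrArg Subtype.val he
    rw [Subgroup.coe_mul, hc, mul_one, Subgroup.coe_zpow] at h1
    rw [show z = (e : Ω) ^ i from h1]
    exact zpow_mem hfr.e_mem i
  rw [← card_dz h, ← le_antisymm hle dz_le_zS, ← card_map_of_injective S.subtype_injective]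
  congr 2
  ext x
  constructor
  · rintro ⟨u, hu, rfl⟩; exact (mem_center_iff_mem_zS u).1 hu
  · exact fun hx => ⟨⟨x, hx.1⟩, (mem_center_iff_mem_zS (⟨x, hx.1⟩ : S)).2 hx, rfl⟩

theorem card_center_odd (hp2 : p ≠ 2) : Nat.card (center S) = p := by
  obtain ⟨E, hE⟩ := exists_essential h hF hcore
  obtain ⟨C, e, f, a, w, hfr⟩ := exists_frame h hF hE
  refine card_center_of_frame h hF hcore hE hfr ?_
  obtain ⟨t, ht, ht1, ht2⟩ := hfr.exists_inversion h hF hE
  -- inversions agree on the centre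
  have hgood : ∀ (E' C' : Subgroup Ω) (e' f' : E') (a' w' : MulAut E'), F.IsEssential p E' →
      Frame F p E' C' e' f' a' w' → ∀ γ : MulAut S, (∀ d : S, (d : Ω) ∈ dz S → γ d = d⁻¹) →
      (∀ c : S, (c : Ω) ∈ C' → γ c = c) → (∀ z : S, (z : Ω) ∈ zS S → ((γ z * z⁻¹ : S) : Ω) ∈ dz S) ∧
        ∀ z : S, (z : Ω) ∈ zS S → ((z : Ω) ∈ C' ↔ γ z = z) := by
    intro E' C' e' f' a' w' hE' hfr' γ hγ1 hγ2
    have key : ∀ z : S, (z : Ω) ∈ zS S → ∃ d c : S, (d : Ω) ∈ dz S ∧ (c : Ω) ∈ C' ∧ z = d * c := by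
      intro z hz
      obtain ⟨i, c, hc, he⟩ := hfr'.z_decomp (z := ⟨z, zS_le_centric hE'.1 hz⟩) hz
      refine ⟨⟨((e' ^ i : E') : Ω), hE'.1.1 (e' ^ i : E').2⟩, ⟨c, hE'.1.1 c.2⟩, ?_, hc,
        Subtype.ext (by simpa using congrArg Subtype.val he)⟩
      show ((e' ^ i : E') : Ω) ∈ dz S
      rw [Subgroup.coe_zpow]; exact zpow_mem hfr'.e_mem i
    refine ⟨fun z hz => ?_, fun z hz => ⟨fun hc => hγ2 z hc, fun hfix => ?_⟩⟩
    · obtain ⟨d, c, hd, hc, rfl⟩ := key z hz
      rw [map_mul, hγ1 d hd, hγ2 c hc, mul_inv_rev, mul_assoc, mul_inv_cancel_left,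
        Subgroup.coe_mul, Subgroup.coe_inv]
      exact mul_mem (inv_mem hd) (inv_mem hd)
    · obtain ⟨d, c, hd, hc, rfl⟩ := key z hz
      rw [map_mul, hγ1 d hd, hγ2 c hc, mul_left_inj, inv_eq_iff_mul_eq_one, ← pow_two] at hfix
      have hd1 : (d : Ω) = 1 := CentralCommutator.eq_one_of_pow (card_dz h) hd
        (fun hd2 => hp2 ((Nat.prime_dvd_prime_iff_eq hp.out Nat.prime_two).1 hd2))
        (by simpa using congrArg Subtype.val hfix)
      rw [Subgroup.coe_mul, hd1, one_mul]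
      exact hc
  obtain ⟨ht3, htfix⟩ := hgood E C e f a w hE hfr t ht1 ht2
  have hdzc := card_dz h
  have htop : ∀ β ∈ F.autGroup S, ∀ c : S, (c : Ω) ∈ C → (β c : Ω) ∈ C := by
    intro β hβ c hc
    have hcz := hfr.C_le hc
    have heq := eq_on_zS h.pgroup hF hdzc ht
      ((F.autGroup S).mul_mem ((F.autGroup S).mul_mem hβ ht) ((F.autGroup S).inv_mem hβ)) ht1
      (fun d hd => by
        rw [MulAut.mul_apply, MulAut.mul_apply, ht1 _ (aut_mem_dz β⁻¹ hd), map_inv]
        exact congrArg Inv.inv (β.apply_symm_apply d))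
      ht3 (fun u hu => by
        have h1 := aut_mem_dz β (ht3 (β⁻¹ u) ((mem_zS_map_aut β⁻¹).2 hu))
        rw [map_mul, map_inv, show β (β⁻¹ u) = u from β.apply_symm_apply u] at h1
        exact h1) (β c) ((mem_zS_map_aut β).2 hcz)
    refine (htfix _ ((mem_zS_map_aut β).2 hcz)).2 ?_
    rw [heq, MulAut.mul_apply, MulAut.mul_apply, show β⁻¹ (β c) = c from β.symm_apply_apply c,
      ht2 c hc]
  refine isNormal_of_aut h.pgroup hF ?_
  rintro P (rfl | hP)
  · exact ⟨hfr.C_le.trans inf_le_left, fun β hβ => map_eq_self_of_forall_mem fun u hu =>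
      mem_subgroupOf.2 (htop β hβ u hu)⟩
  have := finite_of_le hP.1.1
  obtain ⟨C', e', f', a', w', hfr'⟩ := exists_frame h hF hP
  obtain ⟨t', ht', ht1', ht2'⟩ := hfr'.exists_inversion h hF hP
  obtain ⟨ht3', htfix'⟩ := hgood P C' e' f' a' w' hP hfr' t' ht1' ht2'
  have heq := eq_on_zS h.pgroup hF hdzc ht ht' ht1 ht1' ht3 ht3'
  have hCC : ∀ z : S, (z : Ω) ∈ zS S → ((z : Ω) ∈ C ↔ (z : Ω) ∈ C') := fun z hz => by
    rw [htfix z hz, htfix' z hz, heq z hz]
  refine ⟨fun x hx => zS_le_centric hP.1 (hfr.C_le hx), fun β hβ =>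
    map_eq_self_of_forall_mem fun u hu => ?_⟩
  have huC' : (u : Ω) ∈ C' := (hCC ⟨u, hP.1.1 u.2⟩ (hfr.C_le hu)).1 hu
  have h1 := hfr'.map_C h hF hP hβ huC'
  exact mem_subgroupOf.2 ((hCC ⟨β u, hP.1.1 (β u).2⟩ (hfr'.C_le h1)).2 h1)

theorem structure_odd (hp2 : p ≠ 2) :
    Cfsg.IsExtraspecial p S ∧ Nat.card S = p ^ 3 ∧ Monoid.exponent S = p := by
  have hc := card_center_odd h hF hcore hp2
  have hcard : Nat.card S = p ^ 3 := by rw [h.card_eq, hc, ← pow_succ]
  refine ⟨h.isExtraspecial hc, hcard, ?_⟩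
  obtain ⟨E, hE⟩ := exists_essential h hF hcore
  obtain ⟨C, e, f, a, w, hfr⟩ := exists_frame h hF hE
  have hES := hE.1.1
  have hzd : zS S ≤ dz S := by
    intro x hx
    have hfin : Finite (zS S) := finite_of_le inf_le_left
    have he : dz S = zS S := eq_of_le_of_card_ge dz_le_zS (by
      rw [card_dz h]
      refine le_of_eq_of_le ?_ hc.le
      exact Nat.card_congr
        ⟨fun u => ⟨⟨u, u.2.1⟩, (mem_center_iff_mem_zS _).2 u.2⟩,
          fun u => ⟨u, (mem_center_iff_mem_zS _).1 u.2⟩, fun _ => rfl, fun _ => rfl⟩)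
    exact he ▸ hx
  have hEp : ∀ u : E, u ^ p = 1 := by
    intro u
    obtain ⟨i, j, c, hc', rfl⟩ := hfr.decomp u
    have hc1 : c = 1 := Subtype.ext (hfr.C_dz _ hc' (hzd (hfr.C_le hc')))
    have hcm : Commute (e ^ i) (f ^ j) := Subtype.ext (ess_comm h hF hE (e ^ i).2 (f ^ j).2)
    rw [hc1, mul_one, hcm.mul_pow, ← zpow_natCast, ← zpow_mul, mul_comm i, zpow_mul, zpow_natCast,
      hfr.e_pow h, one_zpow, ← zpow_natCast, ← zpow_mul, mul_comm j, zpow_mul, zpow_natCast,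
      hfr.f_pow, one_zpow, one_mul]
  obtain ⟨u, huE, hu⟩ : ∃ u : S, (u : Ω) ∉ E ∧ u ^ p = 1 := by
    by_contra hcon
    push Not at hcon
    refine hfr.f_ne ?_
    have hsc : F.StronglyClosed E := ⟨hES, fun R hR φ hφ x => by
      by_contra hx
      refine hcon ⟨φ x, val_mem hφ x⟩ hx (Subtype.ext ?_)
      rw [Subgroup.coe_pow, ← map_pow, show x ^ p = 1 from Subtype.ext (by
        simpa using congrArg Subtype.val (hEp ⟨x, hR x.2⟩)), map_one]
      rfl⟩
    have hab : IsMulCommutative E :=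
      ⟨⟨fun u v => Subtype.ext (ess_comm h hF hE u.2 v.2)⟩⟩
    have hle := hcore ▸ le_core (isNormal_of_isMulCommutative h.pgroup hF hsc hab)
    exact Subtype.ext (mem_bot.1 (hle f.2))
  let φ : S →* S :=
    { toFun := fun s => s ^ p, map_one' := one_pow p, map_mul' := h.mul_pow_prime hp2 }
  have hEker : E.subgroupOf S ≤ φ.ker := fun s hs => by
    show s ^ p = 1
    exact Subtype.ext (by simpa using congrArg Subtype.val (hEp ⟨s, hs⟩))
  have hlt : center S < E.subgroupOf S :=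
    lt_of_le_of_ne (center_le_subgroupOf h hE) fun e' => hfr.f_not_mem
      ((mem_center_iff_mem_zS (⟨f, hES f.2⟩ : S)).1 (e' ▸ (f.2 : (⟨f, hES f.2⟩ : S) ∈ E.subgroupOf S)))
  have hker : φ.ker = ⊤ := h.eq_top_of_not_le hlt hEker fun hle => huE (hle (show u ∈ φ.ker from hu))
  have hdvd : Monoid.exponent S ∣ p :=
    Monoid.exponent_dvd_of_forall_pow_eq_one fun s => (hker ▸ mem_top s : s ∈ φ.ker)
  refine ((Nat.dvd_prime hp.out).1 hdvd).resolve_left fun e' => ?_
  have := Monoid.exp_eq_one_iff.1 e'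
  obtain ⟨x, y, hxy⟩ := h.nab
  exact hxy (Subsingleton.elim _ _)

end Cfsg.Agent.Lib.CentreIndexSq
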