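import Cfsg.Agent.Lib.CentreIndexSq.Odd
import Cfsg.Agent.Lib.Fusion.Hyperfocal
import Cfsg.Agent.Lib.Fusion.KTransfer
import Cfsg.Agent.Lib.Resistant.GenExtraSplit

/-!
Core-free systems over a `2`-group with centre of index `4` and full hyperfocal subgroup: dihedral
of order 8.
-/

set_option autoImplicit false
set_option linter.unusedSectionVars false
set_option maxHeartbeats 400000

namespace Cfsg.Agent.Lib.CentreIndexSq

open Subgroup Cfsg
open Cfsg.FusionSystem hiding inv_mem conj_mem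
open Cfsg.Agent.Lib Cfsg.Agent.Lib.Fusion
open Cfsg.Agent.Lib.AbelianMaximal (zS dz mem_zS_map_aut aut_mem_dz mem_center_iff_mem_zS
  map_eq_self_of_forall_mem isPGroup_stab' stab)

variable {Ω : Type*} [Group Ω] {S : Subgroup Ω} [Fact (Nat.Prime 2)] {F : FusionSystem S}
  [Finite S]

/-- A proper subgroup over the centre with an involution outside the centre. -/
def HasInvolution (S : Subgroup Ω) (H : Subgroup S) : Prop :=
  center S ≤ H ∧ H ≠ ⊤ ∧ ∃ f ∈ H, f ∉ center S ∧ f ^ 2 = 1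

theorem map_map_aut (H : Subgroup S) (a b : MulAut S) :
    (H.map a.toMonoidHom).map b.toMonoidHom = H.map (b * a).toMonoidHom := by
  rw [Subgroup.map_map]; rfl

theorem HasInvolution.map {H : Subgroup S} (hH : HasInvolution S H) (γ : MulAut S) :
    HasInvolution S (H.map γ.toMonoidHom) := by
  obtain ⟨h1, h2, f, hf, hfc, hf2⟩ := hH
  have hcf : ∀ z : S, γ z ∈ center S ↔ z ∈ center S := fun z => by
    rw [mem_center_iff_mem_zS, mem_center_iff_mem_zS]; exact mem_zS_map_aut γ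
  refine ⟨fun z hz => ⟨γ⁻¹ z, h1 ((hcf _).1 ?_), γ.apply_symm_apply z⟩, fun e => h2 ?_,
    γ f, mem_map_of_mem _ hf, fun e => hfc ((hcf f).1 e), by rw [← map_pow, hf2, map_one]⟩
  · rwa [show γ (γ⁻¹ z) = z from γ.apply_symm_apply z]
  · rw [eq_top_iff]
    intro z _
    obtain ⟨v, hv, hve⟩ := (e ▸ mem_top (γ z) : γ z ∈ H.map γ.toMonoidHom)
    rwa [← γ.injective hve]

variable (h : SmallQuot 2 S) (hF : F.IsSaturated 2)

include h hF in
theorem hasInvolution_of_essential {E : Subgroup Ω} (hE : F.IsEssential 2 E) :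
    HasInvolution S (E.subgroupOf S) := by
  obtain ⟨C, e, f, a, w, hfr⟩ := exists_frame h hF hE
  refine ⟨center_le_subgroupOf h hE, subgroupOf_ne_top h hF hE, ⟨f, hE.1.1 f.2⟩, f.2,
    fun hc => hfr.f_not_mem ((mem_center_iff_mem_zS _).1 hc), Subtype.ext ?_⟩
  simpa using congrArg Subtype.val hfr.f_pow

include h hF in
/-- At most two intermediate subgroups have involutions outside the centre. -/
theorem eq_or_eq_of_hasInvolution {E : Subgroup Ω} (hE : F.IsEssential 2 E) {H K L : Subgroup S}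
    (hH : HasInvolution S H) (hK : HasInvolution S K) (hL : HasInvolution S L) (hHK : H ≠ K) :
    L = H ∨ L = K := by
  by_contra hcon
  push Not at hcon
  obtain ⟨hH1, hH2, x, hx, hxc, hx2⟩ := hH
  obtain ⟨hK1, hK2, y, hy, hyc, hy2⟩ := hK
  obtain ⟨hL1, hL2, z, hz, hzc, hz2⟩ := hL
  have hidx : ∀ {J : Subgroup S}, center S ≤ J → J ≠ ⊤ → ∀ r ∈ J, r ∉ center S → J.index = 2 :=
    fun {J} h1 h2 r hr hrc => h.index_of_between (lt_of_le_of_ne h1 fun e => hrc (e ▸ hr)) h2
  have iH := hidx hH1 hH2 x hx hxc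
  have iK := hidx hK1 hK2 y hy hyc
  have hyH : y ∉ H := fun e => hHK (h.eq_of_common hH1 hH2 hK1 hK2 e hy hyc)
  have hxK : x ∉ K := fun e => hHK (h.eq_of_common hH1 hH2 hK1 hK2 hx e hxc)
  have hzH : z ∉ H := fun e => hcon.1 (h.eq_of_common hL1 hL2 hH1 hH2 hz e hzc)
  have hzK : z ∉ K := fun e => hcon.2 (h.eq_of_common hL1 hL2 hK1 hK2 hz e hzc)
  set t := (x * y)⁻¹ * z with ht
  have htH : t ∈ H := by
    rw [ht, mul_mem_iff_of_index_two iH, H.inv_mem_iff, mul_mem_iff_of_index_two iH]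
    exact ⟨fun e => absurd (e.1 hx) hyH, fun e => absurd e hzH⟩
  have htK : t ∈ K := by
    rw [ht, mul_mem_iff_of_index_two iK, K.inv_mem_iff, mul_mem_iff_of_index_two iK]
    exact ⟨fun e => absurd (e.2 hy) hxK, fun e => absurd e hzK⟩
  have htc : t ∈ center S := by
    by_contra htc
    exact hHK (h.eq_of_common hH1 hH2 hK1 hK2 htH htK htc)
  have hxi : x⁻¹ = x := inv_eq_of_mul_eq_one_right (by rwa [← pow_two])
  have hyi : y⁻¹ = y := inv_eq_of_mul_eq_one_right (by rwa [← pow_two])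
  have hsq : t ^ 2 * (x * y) ^ 2 = 1 := by
    have hc : Commute t (x * y) := ((mem_center_iff.1 htc) (x * y)).symm
    rw [← hc.mul_pow, hc.eq, ht, mul_inv_cancel_left, hz2]
  have hxy : (x * y) ^ 2 = h.cm x y := by
    rw [h.cm_apply, hxi, hyi, pow_two, ← mul_assoc]
  obtain ⟨C, e, f, a, w, hfr⟩ := exists_frame h hF hE
  have htz : (t : Ω) ∈ zS S := (mem_center_iff_mem_zS t).1 htc
  obtain ⟨i, c, hc, hte⟩ := hfr.z_decomp (z := ⟨t, zS_le_centric hE.1 htz⟩) htz
  have ht2 : ((t ^ 2 : S) : Ω) ∈ dz S := by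
    rw [eq_inv_of_mul_eq_one_left hsq, hxy, Subgroup.coe_inv]
    exact inv_mem (comm_mem_dz h x.2 y.2)
  have hte2 : (⟨t, zS_le_centric hE.1 htz⟩ : E) ^ 2 = c ^ 2 := by
    have hcm : Commute (e ^ i) c := Subtype.ext (ess_comm h hF hE (e ^ i).2 c.2)
    rw [hte, hcm.mul_pow, ← zpow_natCast, ← zpow_mul, mul_comm i, zpow_mul, zpow_natCast,
      hfr.e_pow h, one_zpow, one_mul]
  have hval : ((t ^ 2 : S) : Ω) = ((c ^ 2 : E) : Ω) := by simpa using congrArg Subtype.val hte2
  have h1 : ((c ^ 2 : E) : Ω) = 1 :=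
    hfr.C_dz _ (by rw [Subgroup.coe_pow]; exact pow_mem hc 2) (hval ▸ ht2)
  have ht1 : t ^ 2 = 1 := Subtype.ext (hval.trans h1)
  rw [ht1, one_mul, hxy, h.cm_apply, mul_inv_eq_one, mul_inv_eq_iff_eq_mul] at hsq
  exact hyH (h.mem_of_commute hH1 hH2 hx hxc hsq.symm)

include h hF in
/-- An odd automorphism fixes each essential subgroup. -/
theorem odd_map_eq {E : Subgroup Ω} (hE : F.IsEssential 2 E) {γ : MulAut S} (hodd : Odd (orderOf γ)) :
    (E.subgroupOf S).map γ.toMonoidHom = E.subgroupOf S := by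
  set H := E.subgroupOf S
  have hH := hasInvolution_of_essential h hF hE
  by_contra hne
  have h1 := hH.map γ
  have h2 := h1.map γ
  have hne2 : (H.map γ.toMonoidHom).map γ.toMonoidHom ≠ H.map γ.toMonoidHom := fun e =>
    hne (Subgroup.map_injective (f := γ.toMonoidHom) γ.injective e)
  have hfix : H.map (γ * γ).toMonoidHom = H := by
    rw [← map_map_aut]
    exact (eq_or_eq_of_hasInvolution h hF hE hH h1 h2 (fun e => hne e.symm)).resolve_right hne2
  have hk : ∀ k : ℕ, H.map ((γ * γ) ^ k).toMonoidHom = H := by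
    intro k
    induction k with
    | zero => rw [pow_zero]; exact Subgroup.map_id H
    | succ k ih => rw [pow_succ, ← map_map_aut, hfix, ih]
  obtain ⟨k, hk'⟩ := hodd
  refine hne ?_
  have e1 : γ = (γ * γ) ^ (k + 1) := by
    rw [← pow_two, ← pow_mul, show 2 * (k + 1) = orderOf γ + 1 by omega, pow_add, pow_orderOf_eq_one,
      one_mul, pow_one]
  rw [e1]
  exact hk (k + 1)

include h hF in
theorem odd_mapsTo {E : Subgroup Ω} (hE : F.IsEssential 2 E) {γ : MulAut S} (hodd : Odd (orderOf γ))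
    (x : S) (hx : (x : Ω) ∈ E) : (γ x : Ω) ∈ E :=
  (odd_map_eq h hF hE hodd).le (mem_map_of_mem γ.toMonoidHom (x := x) hx)

include h hF in
/-- An element of a frame outside the centre is `f` modulo the centre. -/
theorem Frame.coset {E C : Subgroup Ω} (hE : F.IsEssential 2 E) {e f : E} {a w : MulAut E}
    (hfr : Frame F 2 E C e f a w)
    {u : E} (hu : (u : Ω) ∉ zS S) : ((u : Ω) * (f : Ω)⁻¹) ∈ zS S := by
  obtain ⟨i, j, c, hc, rfl⟩ := hfr.decomp u
  have hj : f ^ j = f := by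
    rcases Int.even_or_odd j with ⟨k, rfl⟩ | ⟨k, rfl⟩
    · refine absurd ?_ hu
      rw [← two_mul, zpow_mul, zpow_ofNat, hfr.f_pow, one_zpow, mul_one, Subgroup.coe_mul,
        Subgroup.coe_zpow]
      exact mul_mem (zpow_mem hfr.e_zS i) (hfr.C_le hc)
    · rw [zpow_add, zpow_mul, zpow_ofNat, hfr.f_pow, one_zpow, one_mul, zpow_one]
  have e1 : (e : Ω) ^ i * f * c * (f : Ω)⁻¹ = (e : Ω) ^ i * c := by
    rw [mul_assoc _ (f : Ω), ess_comm h hF hE f.2 c.2, ← mul_assoc, mul_inv_cancel_right]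
  rw [hj, Subgroup.coe_mul, Subgroup.coe_mul, Subgroup.coe_zpow, e1]
  exact mul_mem (zpow_mem hfr.e_zS i) (hfr.C_le hc)

variable (hcore : F.core = ⊥)

include h hF in
theorem odd_mem_stab {E E' : Subgroup Ω} (hE : F.IsEssential 2 E) (hE' : F.IsEssential 2 E')
    (hne : E ≠ E') {γ : MulAut S} (hodd : Odd (orderOf γ)) (hfix : ∀ z ∈ center S, γ z = z) :
    γ = 1 := by
  let K : Subgroup S :=
    { carrier := {u | u⁻¹ * γ u ∈ center S}
      one_mem' := by simp
      mul_mem' := fun {u v} hu hv => by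
        show (u * v)⁻¹ * γ (u * v) ∈ center S
        have e := mem_center_iff.1 hu v⁻¹
        rw [map_mul, mul_inv_rev, show v⁻¹ * u⁻¹ * (γ u * γ v) = v⁻¹ * (u⁻¹ * γ u) * γ v by group, e,
          mul_assoc]
        exact mul_mem hu hv
      inv_mem' := fun {u} hu => by
        show u⁻¹⁻¹ * γ u⁻¹ ∈ center S
        have h1 := inv_mem (show u⁻¹ * γ u ∈ center S from hu)
        have e := mem_center_iff.1 h1 u
        rw [inv_inv, map_inv,
          show u * (γ u)⁻¹ = u * ((u⁻¹ * γ u)⁻¹ * u⁻¹) by group, ← mul_assoc, e, mul_inv_cancel_right]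
        exact h1 }
  have hle : ∀ {E : Subgroup Ω}, F.IsEssential 2 E → E.subgroupOf S ≤ K := by
    intro E hE u hu
    obtain ⟨C, e, f, a, w, hfr⟩ := exists_frame h hF hE
    show u⁻¹ * γ u ∈ center S
    by_cases hz : u ∈ center S
    · rw [hfix u hz, inv_mul_cancel]; exact one_mem _
    rw [mem_center_iff_mem_zS] at hz ⊢
    have hγu : (γ u : Ω) ∉ zS S := fun e' => hz ((mem_zS_map_aut γ).1 e')
    have h1 := hfr.coset h hF hE (u := ⟨u, hu⟩) hz
    have h2 := hfr.coset h hF hE (u := ⟨γ u, odd_mapsTo h hF hE hodd u hu⟩) hγu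
    set q := (u : Ω) * (f : Ω)⁻¹ with hq
    set q' := (γ u : Ω) * (f : Ω)⁻¹ with hq'
    have hc : (u : Ω)⁻¹ * (γ u : Ω) = q⁻¹ * q' := by
      have hfq : (f : Ω)⁻¹ * (q⁻¹ * q') = q⁻¹ * q' * (f : Ω)⁻¹ :=
        (mem_centralizer_iff.1 (mul_mem (inv_mem h1) h2).2 (f : Ω)⁻¹
          (inv_mem (hE.1.1 f.2)))
      calc (u : Ω)⁻¹ * (γ u : Ω) = (f : Ω)⁻¹ * (q⁻¹ * q') * f := by rw [hq, hq']; group
        _ = q⁻¹ * q' := by rw [hfq, inv_mul_cancel_right]
    rw [Subgroup.coe_mul, Subgroup.coe_inv, hc]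
    exact mul_mem (inv_mem h1) h2
  have hK : K = ⊤ := by
    obtain ⟨h1, -, f, hf, hfc, -⟩ := hasInvolution_of_essential h hF hE
    refine h.eq_top_of_not_le (lt_of_le_of_ne h1 fun e => hfc (e ▸ hf)) (hle hE) fun hK => hne ?_
    have hH' := hasInvolution_of_essential h hF hE'
    have hlt : center S < E'.subgroupOf S := by
      obtain ⟨h1', -, f', hf', hfc', -⟩ := hH'
      exact lt_of_le_of_ne h1' fun e => hfc' (e ▸ hf')
    have := h.eq_of_between hlt ((hle hE').trans hK) (subgroupOf_ne_top h hF hE)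
    rw [← map_subgroupOf_eq_of_le hE.1.1, ← map_subgroupOf_eq_of_le hE'.1.1, this]
  have hst : γ ∈ stab (center S) := by
    refine ⟨hfix, fun v => ?_⟩
    have h1 : v⁻¹ * γ v ∈ center S := (hK ▸ mem_top v : v ∈ K)
    have e := mem_center_iff.1 h1 v
    rwa [show γ v * v⁻¹ = v * (v⁻¹ * γ v) * v⁻¹ by group, e, mul_inv_cancel_right]
  obtain ⟨k, hk⟩ := isPGroup_stab' h.pgroup (center S) ⟨γ, hst⟩
  have hd : orderOf γ ∣ 2 ^ k := orderOf_dvd_of_pow_eq_one (by simpa using congrArg Subtype.val hk)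
  refine orderOf_eq_one_iff.1 (Nat.eq_one_of_dvd_coprimes ?_ hd dvd_rfl)
  exact (Nat.coprime_two_left.2 hodd).pow_left k

include h hF in
/-- A subgroup containing the inner and the odd automorphisms is everything. -/
theorem autGroup_le_of_odd {K : Subgroup (MulAut S)} (hinn : Inn S ≤ K)
    (hodd : ∀ γ ∈ F.autGroup S, Odd (orderOf γ) → γ ∈ K) : F.autGroup S ≤ K := by
  intro β hβ
  have hfin := finite_autGroup (F := F) (le_refl S)
  obtain ⟨-, hsyl⟩ := isFullyAutomized_iff.1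
    (isFullyAutomized_of_isFullyNormalized h.pgroup hF (isFullyNormalized_top F))
  rw [← inn_eq_autInducedBy] at hsyl
  haveI := inn_normal_subgroupOf F S
  set i := ((Inn S).subgroupOf (F.autGroup S)).index
  have hi : β ^ i ∈ K := hinn
    (Subgroup.pow_index_mem ((Inn S).subgroupOf (F.autGroup S)) ⟨β, hβ⟩ : _)
  have : Finite (MulAut S) := finite_mulAut le_rfl
  obtain ⟨k, m, hm, hkm⟩ := Nat.exists_eq_two_pow_mul_odd (orderOf_pos β).ne'
  have hord : orderOf (β ^ 2 ^ k) = m := by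
    rw [orderOf_pow, hkm, Nat.gcd_mul_right_left, Nat.mul_div_cancel_left m (pow_pos two_pos k)]
  have hk : β ^ 2 ^ k ∈ K := hodd _ (pow_mem hβ _) (hord.symm ▸ hm)
  have hcop : Nat.Coprime i (2 ^ k) :=
    (((Fact.out : Nat.Prime 2).coprime_iff_not_dvd.2 hsyl.2.2).symm).pow_right k
  obtain ⟨u, v, huv⟩ := Int.isCoprime_iff_gcd_eq_one.2
    (show Int.gcd (i : ℤ) ((2 ^ k : ℕ) : ℤ) = 1 from hcop)
  have e : β = (β ^ i) ^ u * (β ^ 2 ^ k) ^ v := by
    rw [← zpow_natCast β i, ← zpow_natCast β (2 ^ k), ← zpow_mul, ← zpow_mul, ← zpow_add,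
      mul_comm (i : ℤ), mul_comm ((2 ^ k : ℕ) : ℤ), huv, zpow_one]
  rw [e]
  exact mul_mem (zpow_mem hi u) (zpow_mem hk v)

include h hF hcore in
theorem exists_two_essential :
    ∃ E E' : Subgroup Ω, F.IsEssential 2 E ∧ F.IsEssential 2 E' ∧ E ≠ E' := by
  by_contra hcon
  push Not at hcon
  obtain ⟨E, hE⟩ := exists_essential h hF hcore
  obtain ⟨C, e, f, a, w, hfr⟩ := exists_frame h hF hE
  refine hfr.f_ne (Subtype.ext (mem_bot.1 (hcore ▸ le_core (isNormal_of_aut h.pgroup hF ?_) f.2)))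
  rintro P (hP' | hP)
  · subst hP'
    refine ⟨hE.1.1, fun β hβ => ?_⟩
    set H := E.subgroupOf P
    let K : Subgroup (MulAut P) :=
      { carrier := {δ | H.map δ.toMonoidHom = H}
        one_mem' := Subgroup.map_id H
        mul_mem' := fun {δ ε} hd he => by
          show H.map (δ * ε).toMonoidHom = H
          rw [← map_map_aut, he, hd]
        inv_mem' := fun {δ} hd => by
          show H.map δ⁻¹.toMonoidHom = H
          conv_lhs => rw [← hd]
          rw [map_map_aut, inv_mul_cancel]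
          exact Subgroup.map_id H }
    refine autGroup_le_of_odd h hF (K := K) ?_ (fun γ _ hodd => odd_map_eq h hF hE hodd) hβ
    rintro _ ⟨g, rfl⟩
    exact map_eq_self_of_forall_mem fun u hu => mem_subgroupOf.2
      ((mem_normalizer_iff.1 (mem_normalizer' h hE g.2) u).1 hu)
  · obtain rfl : E = P := hcon E P hE hP
    have := finite_of_le hE.1.1
    exact ⟨le_rfl, fun β _ => map_eq_self_of_forall_mem fun u _ => mem_subgroupOf.2 (β u).2⟩

include h hF hcore in
/-- Odd automorphisms of `S` fix the centre. -/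
theorem odd_fix_center {γ : MulAut S} (hγ : γ ∈ F.autGroup S) (hodd : Odd (orderOf γ)) :
    ∀ z ∈ center S, γ z = z := by
  set W : Subgroup Ω := closure {v : Ω | ∃ δ ∈ F.autGroup S, Odd (orderOf δ) ∧
    ∃ z ∈ center S, v = ((z⁻¹ * δ z : S) : Ω)} with hW
  have hWC : ∀ {E C : Subgroup Ω} (hE : F.IsEssential 2 E) {e f : E} {a w : MulAut E},
      Frame F 2 E C e f a w → W ≤ C := by
    intro E C hE e f a w hfr
    refine (closure_le C).2 ?_
    rintro _ ⟨δ, hδ, hδodd, z, hz, rfl⟩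
    have hzz := (mem_center_iff_mem_zS z).1 hz
    obtain ⟨i, c, hc, hze⟩ := hfr.z_decomp (z := ⟨z, zS_le_centric hE.1 hzz⟩) hzz
    set eS : S := ⟨e, hE.1.1 e.2⟩ with heS
    set cS : S := ⟨c, hE.1.1 c.2⟩ with hcS
    have hzS : z = eS ^ i * cS := Subtype.ext (by simpa [heS, hcS] using congrArg Subtype.val hze)
    have hde : δ eS = eS := by
      have h2 : ((δ eS : S) : Ω) ∈ dz S := aut_mem_dz δ (z := eS) hfr.e_mem
      obtain ⟨n, hn⟩ := CentralCommutator.exists_pow_eq (card_dz h) (z := (e : Ω)) hfr.e_mem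
        (fun e' => hfr.e_ne (Subtype.ext e')) h2
      have hnS : δ eS = eS ^ n := Subtype.ext (by simpa [heS] using hn.symm)
      have he2 : eS ^ 2 = 1 := Subtype.ext (by simpa [heS] using congrArg Subtype.val (hfr.e_pow h))
      rcases Nat.even_or_odd n with ⟨q, hq⟩ | ⟨q, hq⟩
      · rw [hq, ← two_mul, pow_mul, he2, one_pow] at hnS
        exact absurd (δ.injective (hnS.trans (map_one δ).symm)) fun e' =>
          hfr.e_ne (Subtype.ext (by simpa [heS] using congrArg Subtype.val e'))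
      · rw [hnS, hq, pow_succ, pow_mul, he2, one_pow, one_mul]
    have hdc : (δ cS : Ω) ∈ C :=
      hfr.aut_map_C h hF hE hδ (odd_mapsTo h hF hE hδodd) (c := cS) hc
    rw [hzS, map_mul, map_zpow, hde, show (eS ^ i * cS)⁻¹ * (eS ^ i * δ cS) = cS⁻¹ * δ cS by group,
      Subgroup.coe_mul, Subgroup.coe_inv]
    exact mul_mem (inv_mem hc) hdc
  have htop : ∀ β ∈ F.autGroup S, ∀ v : S, (v : Ω) ∈ W → (β v : Ω) ∈ W := by
    intro β hβ
    have hle : W ≤ (((W.subgroupOf S).comap β.toMonoidHom)).map S.subtype := by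
      refine (closure_le _).2 ?_
      rintro _ ⟨δ, hδ, hδodd, z, hz, rfl⟩
      refine ⟨z⁻¹ * δ z, ?_, rfl⟩
      show ((β (z⁻¹ * δ z) : S) : Ω) ∈ W
      refine subset_closure ⟨β * δ * β⁻¹, mul_mem (mul_mem hβ hδ) (inv_mem hβ), ?_, β z, ?_, ?_⟩
      · rwa [← MulAut.conj_apply, ← MulEquiv.coe_toMonoidHom,
          orderOf_injective _ (MulAut.conj β).injective]
      · rw [mem_center_iff_mem_zS] at hz ⊢
        exact (mem_zS_map_aut β).2 hz
      · rw [map_mul, map_inv, MulAut.mul_apply, MulAut.mul_apply, MulAut.inv_apply_self]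
    intro v hv
    obtain ⟨u, hu, huv⟩ := hle hv
    obtain rfl : u = v := Subtype.ext huv
    exact hu
  have hWn : F.IsNormal W := by
    refine isNormal_of_aut h.pgroup hF ?_
    rintro P (rfl | hP)
    · refine ⟨(closure_le _).2 ?_, fun β hβ => map_eq_self_of_forall_mem fun u hu =>
        mem_subgroupOf.2 (htop β hβ u hu)⟩
      rintro _ ⟨δ, -, -, z, -, rfl⟩
      exact (z⁻¹ * δ z).2
    have := finite_of_le hP.1.1
    obtain ⟨C, e, f, a, w, hfr⟩ := exists_frame h hF hP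
    refine ⟨(hWC hP hfr).trans (hfr.C_le.trans (zS_le_centric hP.1)),
      fun β hβ => map_eq_self_of_forall_mem fun u hu => mem_subgroupOf.2 ?_⟩
    obtain ⟨δ, hδ, hδx⟩ := hfr.exists_ext_C h hF hP hβ
    rw [← hδx u (hWC hP hfr hu)]
    exact htop δ hδ _ hu
  have hW1 : W = ⊥ := eq_bot_iff.2 (hcore ▸ le_core hWn)
  intro z hz
  have h1 : ((z⁻¹ * γ z : S) : Ω) ∈ W := subset_closure ⟨γ, hγ, hodd, z, hz, rfl⟩
  rw [hW1, mem_bot] at h1
  exact (inv_mul_eq_one.1 (Subtype.ext h1)).symm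

include h hF hcore in
theorem structure_two (hhyp : F.hyperfocalSubgroup 2 = S) :
    Cfsg.IsExtraspecial 2 S ∧ Nat.card S = 2 ^ 3 ∧ Nonempty (S ≃* DihedralGroup 4) := by
  obtain ⟨E, E', hE, hE', hne⟩ := exists_two_essential h hF hcore
  have hinn : F.autGroup S ≤ Inn S := autGroup_le_of_odd h hF le_rfl fun γ hγ hodd => by
    rw [odd_mem_stab h hF hE hE' hne hodd (odd_fix_center h hF hcore hγ hodd)]
    exact one_mem _
  obtain ⟨C, e, f, a, w, hfr⟩ := exists_frame h hF hE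
  obtain ⟨C', e', f', a', w', hfr'⟩ := exists_frame h hF hE'
  set x : S := ⟨f, hE.1.1 f.2⟩ with hx
  set y : S := ⟨f', hE'.1.1 f'.2⟩ with hy
  have hx2 : x * x = 1 := Subtype.ext (by simpa [hx, pow_two] using congrArg Subtype.val hfr.f_pow)
  have hy2 : y * y = 1 := Subtype.ext (by simpa [hy, pow_two] using congrArg Subtype.val hfr'.f_pow)
  have hxc : x ∉ center S := fun e => hfr.f_not_mem ((mem_center_iff_mem_zS x).1 e)
  have hH' : E.subgroupOf S ≠ E'.subgroupOf S := fun e => hne (by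
    rw [← map_subgroupOf_eq_of_le hE.1.1, ← map_subgroupOf_eq_of_le hE'.1.1, e])
  have hxy : x * y ≠ y * x := by
    intro e
    have hy' : y ∈ E.subgroupOf S := h.mem_of_commute (center_le_subgroupOf h hE)
      (subgroupOf_ne_top h hF hE) (r := x) f.2 hxc e.symm
    exact hH' (h.eq_of_common (center_le_subgroupOf h hE) (subgroupOf_ne_top h hF hE)
      (center_le_subgroupOf h hE') (subgroupOf_ne_top h hF hE') hy' f'.2
      fun e => hfr'.f_not_mem ((mem_center_iff_mem_zS y).1 e))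
  set U : Subgroup Ω := closure {(f : Ω), (f' : Ω)} with hU
  have hfU : (f : Ω) ∈ U := subset_closure (Set.mem_insert _ _)
  have hf'U : (f' : Ω) ∈ U := subset_closure (Set.mem_insert_of_mem _ rfl)
  have hdzU : dz S ≤ U := by
    have h1 : ((x * y * x⁻¹ * y⁻¹ : S) : Ω) ∈ dz S := by
      simpa using comm_mem_dz h x.2 y.2
    have h2 : ((x * y * x⁻¹ * y⁻¹ : S) : Ω) ∈ U := by
      simp only [Subgroup.coe_mul, Subgroup.coe_inv]
      exact mul_mem (mul_mem (mul_mem hfU hf'U) (inv_mem hfU)) (inv_mem hf'U)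
    intro d hd
    obtain ⟨n, rfl⟩ := CentralCommutator.exists_pow_eq (card_dz h) h1
      (fun e => hxy (mul_inv_eq_iff_eq_mul.1 (mul_inv_eq_one.1 (Subtype.ext e)))) hd
    exact pow_mem h2 n
  have hK : ⁅S, S⁆ ≤ U := (commutator_le.2 fun g hg v hv => by
    rw [commutatorElement_def]; exact comm_mem_dz h hg hv : ⁅S, S⁆ ≤ dz S).trans hdzU
  -- the displacement of the automorphisms of one essential subgroup
  have haut : ∀ P C : Subgroup Ω, ∀ hP : F.IsEssential 2 P, ∀ (e₁ f₁ : P) (a₁ w₁ : MulAut P),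
      Frame F 2 P C e₁ f₁ a₁ w₁ → (f₁ : Ω) ∈ U → ∀ β ∈ F.autGroup P, ∀ u : P,
        (u : Ω)⁻¹ * (β u : Ω) ∈ U := by
    intro P C hP e₁ f₁ a₁ w₁ hfr₁ hf₁ β hβ u
    have hVU : ∀ v ∈ closure ({e₁, f₁} : Set P), (v : Ω) ∈ U := fun v hv => by
      refine (closure_le (U.comap P.subtype)).2 ?_ hv
      rintro q (rfl | rfl)
      exacts [hdzU hfr₁.e_mem, hf₁]
    obtain ⟨i, j, c, hc, rfl⟩ := hfr₁.decomp u
    obtain ⟨h1, h2⟩ := hfr₁.map_gen h hF hP hβ
    obtain ⟨δ, hδ, hδc⟩ := hfr₁.exists_ext_C h hF hP hβ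
    have hc1 : β c = c := by
      refine Subtype.ext ?_
      rw [← hδc c hc]
      obtain ⟨g, rfl⟩ := hinn hδ
      show (g : Ω) * c * (g : Ω)⁻¹ = c
      rw [mem_centralizer_iff.1 (hfr₁.C_le hc).2 g g.2, mul_inv_cancel_right]
    have he₁ : e₁ ∈ closure ({e₁, f₁} : Set P) := subset_closure (Set.mem_insert e₁ {f₁})
    have hf₁' : f₁ ∈ closure ({e₁, f₁} : Set P) :=
      subset_closure (Set.mem_insert_of_mem e₁ (Set.mem_singleton f₁))
    have hV : e₁ ^ i * f₁ ^ j ∈ closure ({e₁, f₁} : Set P) :=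
      (closure ({e₁, f₁} : Set P)).mul_mem ((closure ({e₁, f₁} : Set P)).zpow_mem he₁ i)
        ((closure ({e₁, f₁} : Set P)).zpow_mem hf₁' j)
    have hV' : β (e₁ ^ i * f₁ ^ j) ∈ closure ({e₁, f₁} : Set P) := by
      rw [map_mul, map_zpow, map_zpow]; exact mul_mem (zpow_mem h1 i) (zpow_mem h2 j)
    have hcm : (e₁ ^ i * f₁ ^ j * c)⁻¹ * β (e₁ ^ i * f₁ ^ j * c) =
        (e₁ ^ i * f₁ ^ j)⁻¹ * β (e₁ ^ i * f₁ ^ j) := by
      rw [map_mul, hc1]
      have : ∀ A B : P, A * B = B * A := fun A B => Subtype.ext (ess_comm h hF hP A.2 B.2)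
      rw [mul_inv_rev, this c⁻¹ (e₁ ^ i * f₁ ^ j)⁻¹, this (β _) c, mul_assoc, inv_mul_cancel_left]
    have h3 : ((((e₁ ^ i * f₁ ^ j * c)⁻¹ * β (e₁ ^ i * f₁ ^ j * c) : P)) : Ω) ∈ U := by
      rw [hcm]; exact hVU _ (mul_mem (inv_mem hV) hV')
    simpa using h3
  have hle : F ≤ displaceSystem S U hK F := by
    refine le_of_autGroup_le h.pgroup hF _ ?_ fun P hP => ?_
    · intro β hβ
      refine (mem_autGroup le_rfl).2 ⟨autGroup_hom_mem le_rfl hβ, fun u => ?_⟩
      obtain ⟨g, rfl⟩ := hinn hβ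
      refine hK ?_
      have := commutator_mem_commutator (S.inv_mem u.2) g.2
      show (u : Ω)⁻¹ * ((g : Ω) * u * (g : Ω)⁻¹) ∈ ⁅S, S⁆
      simpa [commutatorElement_def, mul_assoc] using this
    · have hPcases : P = E ∨ P = E' := by
        have hto : ∀ {A : Subgroup Ω}, F.IsEssential 2 A → (P.subgroupOf S = A.subgroupOf S) →
            P = A := fun {A} hA e => by
          rw [← map_subgroupOf_eq_of_le hP.1.1, ← map_subgroupOf_eq_of_le hA.1.1, e]
        exact (eq_or_eq_of_hasInvolution h hF hE (hasInvolution_of_essential h hF hE)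
          (hasInvolution_of_essential h hF hE') (hasInvolution_of_essential h hF hP) hH').imp
          (hto hE) (hto hE')
      intro β hβ
      refine (mem_autGroup hP.1.1).2 ⟨autGroup_hom_mem hP.1.1 hβ, fun u => ?_⟩
      rcases hPcases with rfl | rfl
      exacts [haut _ _ hP e f a w hfr hfU β hβ u, haut _ _ hP e' f' a' w' hfr' hf'U β hβ u]
  have hSU : S ≤ U := by
    conv_lhs => rw [← hhyp]
    refine (hyperfocalSubgroup_le_focalSubgroup F).trans ((closure_le U).2 ?_)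
    rintro _ ⟨P, φ, u, hφ, rfl⟩
    exact (hle P hφ).2 u
  have hgen : closure ({x, y} : Set S) = ⊤ := by
    refine eq_top_iff.2 fun s _ => ?_
    have hle' : U ≤ (closure ({x, y} : Set S)).map S.subtype := by
      refine (closure_le _).2 ?_
      rintro q (rfl | rfl)
      exacts [⟨x, subset_closure (Set.mem_insert x _), rfl⟩,
        ⟨y, subset_closure (Set.mem_insert_of_mem x rfl), rfl⟩]
    obtain ⟨t, ht, hts⟩ := hle' (hSU s.2)
    rwa [← Subtype.ext hts]
  have hxi : x⁻¹ = x := inv_eq_of_mul_eq_one_right hx2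
  have hyi : y⁻¹ = y := inv_eq_of_mul_eq_one_right hy2
  set r := x * y with hr
  have hr4 : r ^ 4 = 1 := by
    have e1 : r ^ 2 = h.cm x y := by rw [h.cm_apply, hxi, hyi, hr, pow_two, ← mul_assoc]
    rw [show 4 = 2 * 2 by norm_num, pow_mul, e1, h.cm_pow]
  have hxr : x * r * x⁻¹ = r⁻¹ := by rw [hr, ← mul_assoc, hx2, one_mul, mul_inv_rev, hxi, hyi]
  haveI hN : (zpowers r).Normal := by
    have hxN : x ∈ normalizer (zpowers r : Set S) := by
      refine mem_normalizer_fintype (S := (zpowers r : Set S)) fun v hv => ?_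
      obtain ⟨n, rfl⟩ := hv
      exact ⟨-n, by simp only [← conj_zpow, hxr, inv_zpow']⟩
    have hrN : r ∈ normalizer (zpowers r : Set S) := le_normalizer (mem_zpowers r)
    refine normalizer_eq_top_iff.1 (eq_top_iff.2 ?_)
    rw [← hgen, closure_le]
    rintro q (rfl | rfl)
    · exact hxN
    · have : y = x⁻¹ * r := by rw [hr, inv_mul_cancel_left]
      rw [this]; exact mul_mem (inv_mem hxN) hrN
  have htop : zpowers r ⊔ zpowers x = ⊤ := by
    refine eq_top_iff.2 ?_
    rw [← hgen, closure_le]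
    rintro q (rfl | rfl)
    · exact mem_sup_right (mem_zpowers x)
    · have : y = x⁻¹ * r := by rw [hr, inv_mul_cancel_left]
      rw [this]
      exact mul_mem (mem_sup_right (inv_mem (mem_zpowers x))) (mem_sup_left (mem_zpowers r))
  have hcard8 : Nat.card S ≤ 8 := by
    have hsurj : Function.Surjective fun q : zpowers r × zpowers x => (q.1 : S) * q.2 := by
      intro s
      have hs : s ∈ ((zpowers r ⊔ zpowers x : Subgroup S) : Set S) := htop ▸ mem_top s
      rw [normal_mul] at hs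
      obtain ⟨u, hu, v, hv, rfl⟩ := Set.mem_mul.1 hs
      exact ⟨(⟨u, hu⟩, ⟨v, hv⟩), rfl⟩
    refine (Nat.card_le_card_of_surjective _ hsurj).trans ?_
    rw [Nat.card_prod, Nat.card_zpowers, Nat.card_zpowers]
    exact Nat.mul_le_mul (Nat.le_of_dvd (by norm_num) (orderOf_dvd_of_pow_eq_one hr4))
      (Nat.le_of_dvd two_pos (orderOf_dvd_of_pow_eq_one (by rwa [pow_two])))
  have hc2 : 2 ≤ Nat.card (center S) := by
    rw [← h.card_commutator]
    exact card_le_of_le h.commutator_le_center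
  have hc : Nat.card (center S) = 2 := by have := h.card_eq; omega
  have hS8 : Nat.card S = 8 := by rw [h.card_eq, hc]; norm_num
  exact ⟨h.isExtraspecial hc, by rw [hS8]; norm_num,
    Resistant.nonempty_dihedral hS8 x y hx2 hy2 hxy⟩

end Cfsg.Agent.Lib.CentreIndexSq
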